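import Groth.Agent.VarDim.Algebra
import Mathlib

/-! Lines avoiding a closed subset of codimension two. -/

set_option autoImplicit false
universe u

open Polynomial
open scoped Classical

namespace Groth.Agent.NFApprox

variable {k : Type u} [Field k] {n m : ℕ}

lemma le_dim_of_injective (A : Type u) [CommRing A] [Algebra k A] [Algebra.FiniteType k A]
    (φ : MvPolynomial (Fin n) k →ₐ[k] A) (hφ : Function.Injective φ) : (n : WithBot ℕ∞) ≤ ringKrullDim A := by
  obtain ⟨P, hP, hP'⟩ := Ideal.exists_minimalPrimes_comap_eq φ.toRingHom (I := (⊥ : Ideal A)) ⊥ (by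
    rw [show Ideal.comap φ.toRingHom ⊥ = ⊥ from (RingHom.injective_iff_ker_eq_bot _).1 hφ]
    rw [Ideal.minimalPrimes_eq_subsingleton_self]; rfl)
  have : P.IsPrime := hP.1.1
  have : Algebra.FiniteType k (A ⧸ P) := Algebra.FiniteType.of_surjective (Ideal.Quotient.mkₐ k P) Ideal.Quotient.mk_surjective
  set ψ : MvPolynomial (Fin n) k →ₐ[k] A ⧸ P := (Ideal.Quotient.mkₐ k P).comp φ
  have hψ : Function.Injective ψ := by
    rw [injective_iff_map_eq_zero]
    intro x hx
    have : x ∈ Ideal.comap φ.toRingHom P := by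
      show φ x ∈ P
      exact Ideal.Quotient.eq_zero_iff_mem.1 hx
    rw [hP'] at this
    exact this
  have hind : AlgebraicIndependent k fun i => ψ (MvPolynomial.X i) := by
    rw [algebraicIndependent_iff_injective_aeval,
      show MvPolynomial.aeval (fun i => ψ (MvPolynomial.X i)) = ψ from (MvPolynomial.aeval_unique ψ).symm]
    exact hψ
  obtain ⟨r, h1, h2, -⟩ := VarDim.exists_ringKrullDim_eq_trdeg k (A ⧸ P)
  have hle : n ≤ r := by
    have := hind.lift_cardinalMk_le_trdeg
    rw [h2] at this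
    simpa using this
  calc (n : WithBot ℕ∞) ≤ (r : WithBot ℕ∞) := by exact_mod_cast hle
    _ = ringKrullDim (A ⧸ P) := h1.symm
    _ ≤ ringKrullDim A := ringKrullDim_quotient_le P

/-- The directions of lines through a point meeting a codimension two subset lie in a hypersurface. -/
lemma exists_cone_poly (g : Fin m → MvPolynomial (Fin n) k)
    (hcodim : ringKrullDim (MvPolynomial (Fin n) k ⧸ Ideal.span (Set.range g)) + 2 ≤ (n : WithBot ℕ∞))
    (p : Fin n → k) (hp : ∃ j, MvPolynomial.eval p (g j) ≠ 0) :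
    ∃ G : MvPolynomial (Fin n) k, G ≠ 0 ∧ ∀ d : Fin n → k, MvPolynomial.eval d G ≠ 0 →
      Ideal.span (Set.range fun j => MvPolynomial.aeval (fun i => C (p i) + C (d i) * X) (g j)) = ⊤ := by
  set I := Ideal.span (Set.range g)
  set A := MvPolynomial (Fin n) k ⧸ I
  set φ : MvPolynomial (Fin n) k →ₐ[k] A[X] :=
    MvPolynomial.aeval (R := k) fun i => C (Ideal.Quotient.mk I (MvPolynomial.X i - MvPolynomial.C (p i))) * X
  have hni : ¬ Function.Injective φ := by
    intro hφ
    have h1 := le_dim_of_injective A[X] φ hφ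
    rw [Polynomial.ringKrullDim_of_isNoetherianRing] at h1
    have h2 := hcodim
    change ringKrullDim A + 2 ≤ (n : WithBot ℕ∞) at h2
    generalize ringKrullDim A = D at h1 h2
    induction D using WithBot.recBotCoe with
    | bot => simp at h1
    | coe D =>
      have h1' : (n : ℕ∞) ≤ D + 1 := WithBot.coe_le_coe.1 (by exact_mod_cast h1)
      rw [show (2 : WithBot ℕ∞) = ((2 : ℕ∞) : WithBot ℕ∞) from rfl, ← WithBot.coe_add] at h2
      have h2' : D + 2 ≤ (n : ℕ∞) := WithBot.coe_le_coe.1 h2
      induction D using ENat.recTopCoe with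
      | top => simp at h2'
      | coe D =>
        have a1 : n ≤ D + 1 := by exact_mod_cast h1'
        have a2 : D + 2 ≤ n := by exact_mod_cast h2'
        omega
  rw [injective_iff_map_eq_zero] at hni
  push Not at hni
  obtain ⟨G, hG, hG0⟩ := hni
  refine ⟨G, hG0, fun d hd => ?_⟩
  by_contra hne
  obtain ⟨M, hM, hle⟩ := Ideal.exists_le_maximal _ hne
  letI : Field (k[X] ⧸ M) := Ideal.Quotient.field M
  set t : k[X] ⧸ M := Ideal.Quotient.mk M X
  set x : Fin n → k[X] ⧸ M := fun i => algebraMap k _ (p i) + algebraMap k _ (d i) * t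
  have hx : ∀ j, MvPolynomial.aeval x (g j) = 0 := by
    intro j
    have h0 : Ideal.Quotient.mk M (MvPolynomial.aeval (fun i => C (p i) + C (d i) * X) (g j)) = 0 :=
      Ideal.Quotient.eq_zero_iff_mem.2 (hle (Ideal.subset_span ⟨j, rfl⟩))
    rw [← Ideal.Quotient.mkₐ_eq_mk k, ← AlgHom.comp_apply, MvPolynomial.comp_aeval] at h0
    convert h0 using 4
    ext i
    simp only [x, t, Ideal.Quotient.mkₐ_eq_mk, map_add, map_mul]
    rfl
  have ht : t ≠ 0 := by
    intro ht
    obtain ⟨j, hj⟩ := hp
    apply hj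
    have := hx j
    simp only [x, ht, mul_zero, add_zero] at this
    rw [show MvPolynomial.aeval (fun i => algebraMap k (k[X] ⧸ M) (p i)) (g j) =
      algebraMap k (k[X] ⧸ M) (MvPolynomial.eval p (g j)) from MvPolynomial.aeval_algebraMap_apply _ p (g j)] at this
    simpa using this
  set e : A →ₐ[k] k[X] ⧸ M := Ideal.Quotient.liftₐ I (MvPolynomial.aeval x) (fun a ha => by
    have hle' : I ≤ RingHom.ker (MvPolynomial.aeval x : MvPolynomial (Fin n) k →ₐ[k] k[X] ⧸ M) :=
      Ideal.span_le.2 (by rintro _ ⟨j, rfl⟩; exact hx j)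
    exact hle' ha)
  set ψ : A[X] →ₐ[k] k[X] ⧸ M := Polynomial.aevalTower e t⁻¹
  have hcomp : ψ.comp φ = MvPolynomial.aeval fun i => algebraMap k (k[X] ⧸ M) (d i) := by
    ext i
    simp only [φ, ψ, AlgHom.comp_apply, MvPolynomial.aeval_X, map_mul, Polynomial.aevalTower_C, Polynomial.aevalTower_X]
    show e (Ideal.Quotient.mk I _) * t⁻¹ = _
    rw [show e (Ideal.Quotient.mk I (MvPolynomial.X i - MvPolynomial.C (p i))) =
      MvPolynomial.aeval x (MvPolynomial.X i - MvPolynomial.C (p i)) from rfl]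
    simp [x, ht]
  have h0 := DFunLike.congr_fun hcomp G
  rw [AlgHom.comp_apply, hG, map_zero] at h0
  rw [show MvPolynomial.aeval (fun i => algebraMap k (k[X] ⧸ M) (d i)) G =
      algebraMap k (k[X] ⧸ M) (MvPolynomial.eval d G) from MvPolynomial.aeval_algebraMap_apply _ d G] at h0
  exact hd ((map_eq_zero _).1 h0.symm)

end Groth.Agent.NFApprox
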