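import Groth.Agent.NFApprox.Unram

/-! Congruences of norms, coordinates of small elements. -/

set_option autoImplicit false
universe u

open IsDedekindDomain HeightOneSpectrum NumberField WithZero
open scoped Classical

namespace Groth.Agent.NFApprox

variable {k K L : Type u} [Field k] [NumberField k] [Field K] [NumberField K] [Field L] [NumberField L]
  [Algebra k K] [Algebra k L] [Algebra K L] [IsScalarTower k K L]

lemma valuation_le_of_sum (v : HeightOneSpectrum (𝓞 k)) {ι : Type*} [Fintype ι] (e : ι → L)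
    (he : ∀ i, IsIntegral ℤ (e i)) (c : ι → k) (hc : ∀ i, v.valuation k (c i) ≤ 1) :
    IntAt v (∑ i, c i • e i) :=
  IntAt.sum _ _ fun i _ => by
    rw [Algebra.smul_def]; exact (IntAt.algebraMap_of_valuation_le (hc i)).mul (IntAt.of_isIntegral (he i))

/-- Coordinates of elements which are small at all places over `v` are small at `v`. -/
lemma exists_coord_bound {κ : Type*} [Fintype κ] (e' : Module.Basis κ k K) (v : HeightOneSpectrum (𝓞 k)) (M : ℕ) :
    ∃ N : ℕ, ∀ y : K, (∀ W : HeightOneSpectrum (𝓞 K), under k W = v → W.valuation K y ≤ exp (-(N : ℤ))) →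
      ∀ j, v.valuation k (e'.repr y j) ≤ exp (-(M : ℤ)) := by
  set b := integralBasis K
  obtain ⟨⟨D, hD⟩, hDb⟩ := IsLocalization.exist_integer_multiples (nonZeroDivisors (𝓞 k))
    (Finset.univ : Finset (Module.Free.ChooseBasisIndex ℤ (𝓞 K) × κ)) fun p => e'.repr (b p.1) p.2
  have hD0 : algebraMap (𝓞 k) k D ≠ 0 := by simpa using nonZeroDivisors.ne_zero hD
  have hint : ∀ (y : K), IsIntegral ℤ y → ∀ j, v.valuation k (algebraMap (𝓞 k) k D * e'.repr y j) ≤ 1 := by
    intro y hy j
    have hspan : y ∈ Submodule.span ℤ (Set.range b) := (mem_span_integralBasis K).2 ⟨⟨y, hy⟩, rfl⟩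
    clear hy
    induction hspan using Submodule.span_induction with
    | mem _ hx =>
      obtain ⟨i, rfl⟩ := hx
      obtain ⟨n, hn⟩ := hDb (i, j) (Finset.mem_univ _)
      simp only [Algebra.smul_def] at hn
      rw [← hn]; exact v.valuation_le_one n
    | zero => simp
    | add a c _ _ ha hc =>
      rw [map_add, Finsupp.add_apply, mul_add]
      exact Valuation.map_add_le _ ha hc
    | smul r a _ ha =>
      rw [map_zsmul, Finsupp.smul_apply, zsmul_eq_mul, mul_left_comm, map_mul]
      refine mul_le_one' ?_ ha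
      rw [show (r : k) = algebraMap (𝓞 k) k (r : 𝓞 k) from (map_intCast _ r).symm]
      exact v.valuation_le_one _
  obtain ⟨π, hπ⟩ := v.valuation_exists_uniformizer k
  set n := M + (-(log (v.valuation k (algebraMap (𝓞 k) k D)))).toNat
  set E := (finite_places_over (K := K) ({v} : Set (HeightOneSpectrum (𝓞 k))) (Set.finite_singleton v)).toFinset.sup
    (fun W => ramIdx k W)
  refine ⟨n * E, fun y hy j => ?_⟩
  have hπ0 : π ≠ 0 := fun h => by rw [h, map_zero] at hπ; exact exp_ne_zero hπ.symm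
  have h1 : IntAt v (y * algebraMap k K (π ^ n)⁻¹) := by
    refine IntAt.of_valuation_le fun W hW => ?_
    rw [map_mul, valuation_algebraMap_eq, hW, map_inv₀, map_pow, hπ, inv_pow, ← pow_mul, ← div_eq_mul_inv,
      div_le_one₀ (pow_pos exp_pos _), ← exp_nsmul, nsmul_eq_mul, mul_neg, mul_one]
    refine (hy W hW).trans (exp_le_exp.2 ?_)
    have : ramIdx k W ≤ E := Finset.le_sup (f := fun W => ramIdx k W) (by simpa using hW)
    have := Nat.mul_le_mul_left n this
    push_cast
    omega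
  obtain ⟨s, hs, hsi⟩ := h1
  have h2 := hint _ hsi j
  have e1 : algebraMap k K (algebraMap (𝓞 k) k s) * (y * algebraMap k K (π ^ n)⁻¹) =
      (algebraMap (𝓞 k) k s * (π ^ n)⁻¹) • y := by
    rw [Algebra.smul_def, map_mul]; ring
  rw [e1, map_smul, Finsupp.smul_apply, smul_eq_mul] at h2
  rw [map_mul, map_mul, map_mul, (valuation_eq_one_iff_notMem v).2 hs, map_inv₀, map_pow, hπ, one_mul] at h2
  rcases eq_or_ne (v.valuation k (e'.repr y j)) 0 with h0 | h0
  · rw [h0]; exact zero_le
  have hd : v.valuation k (algebraMap (𝓞 k) k D) ≠ 0 := (Valuation.ne_zero_iff _).2 hD0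
  rw [← exp_log hd, ← exp_log h0, ← exp_nsmul, ← exp_neg, ← exp_add, ← exp_add, ← exp_zero, exp_le_exp,
    nsmul_eq_mul] at h2
  rw [← exp_log h0, exp_le_exp]
  push_cast at h2
  omega

/-- Congruent elements have congruent norms. -/
lemma norm_sub_norm (W : HeightOneSpectrum (𝓞 K)) (x y : L) (t : K)
    (hy : IntAt W y) (η : L) (hη : IntAt W η) (hx : x = y + algebraMap K L t * η) (ht : W.valuation K t ≤ 1) :
    W.valuation K (Algebra.norm K x - Algebra.norm K y) ≤ W.valuation K t := by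
  rcases eq_or_ne t 0 with rfl | ht0
  · simp [hx]
  obtain ⟨s₁, hs₁, h₁⟩ := hy
  obtain ⟨s₂, hs₂, h₂⟩ := hη
  obtain ⟨s₃, hs₃, h₃⟩ := IntAt.algebraMap_of_valuation_le (K := K) (v := W) (c := t) ht
  set Ω := AlgebraicClosure K
  set σ₁ := algebraMap (𝓞 K) K s₁
  set σ₂ := algebraMap (𝓞 K) K s₂
  set σ₃ := algebraMap (𝓞 K) K s₃
  set σ := σ₁ * σ₂ * σ₃ with hσ
  have hσv : W.valuation K σ = 1 := by
    rw [hσ, map_mul, map_mul, (valuation_eq_one_iff_notMem W).2 hs₁, (valuation_eq_one_iff_notMem W).2 hs₂,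
      (valuation_eq_one_iff_notMem W).2 hs₃, one_mul, one_mul]
  set τ := σ₃ * t
  have hτ : IsIntegral ℤ (algebraMap K L τ) := by
    have h3 : IsIntegral ℤ τ := h₃
    exact h3.map (algebraMap K L).toIntAlgHom
  have hi₁ : IsIntegral ℤ (algebraMap K L σ * y) := by
    have := ((IntAt.isIntegral_coe (k := K) (K := L) s₂).mul (IntAt.isIntegral_coe (k := K) (K := L) s₃)).mul h₁
    have e1 : algebraMap K L σ₂ * algebraMap K L σ₃ * (algebraMap K L σ₁ * y) = algebraMap K L σ * y := by
      rw [hσ, map_mul, map_mul]; ring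
    exact e1 ▸ this
  have hi₂ : IsIntegral ℤ (algebraMap K L (σ₁ * σ₂) * η) := by
    have := (IntAt.isIntegral_coe (k := K) (K := L) s₁).mul h₂
    have e1 : algebraMap K L σ₁ * (algebraMap K L σ₂ * η) = algebraMap K L (σ₁ * σ₂) * η := by
      rw [map_mul]; ring
    exact e1 ▸ this
  have hsx : algebraMap K L σ * x = algebraMap K L σ * y + algebraMap K L τ * (algebraMap K L (σ₁ * σ₂) * η) := by
    rw [hx]; simp only [hσ, τ, map_mul]; ring
  have key : ∀ (s : Finset (L →ₐ[K] Ω)), ∃ r : Ω, IsIntegral ℤ r ∧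
      ∏ φ ∈ s, φ (algebraMap K L σ * x) - ∏ φ ∈ s, φ (algebraMap K L σ * y) = algebraMap K Ω τ * r := by
    intro s
    induction s using Finset.induction with
    | empty => exact ⟨0, isIntegral_zero, by simp⟩
    | insert φ s hφ ih =>
      obtain ⟨r, hr, hr'⟩ := ih
      rw [Finset.prod_insert hφ, Finset.prod_insert hφ]
      have hint : ∀ φ : L →ₐ[K] Ω, ∀ z : L, IsIntegral ℤ z → IsIntegral ℤ (φ z) := fun φ z hz =>
        hz.map (φ.restrictScalars ℤ)
      refine ⟨φ (algebraMap K L σ * x) * r + φ (algebraMap K L (σ₁ * σ₂) * η) * ∏ ψ ∈ s, ψ (algebraMap K L σ * y),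
        ((hint φ _ ?_).mul hr).add ((hint φ _ hi₂).mul (IsIntegral.prod _ fun ψ _ => hint ψ _ hi₁)), ?_⟩
      · rw [hsx]; exact hi₁.add (hτ.mul hi₂)
      · have e1 : φ (algebraMap K L σ * x) = φ (algebraMap K L σ * y) +
            algebraMap K Ω τ * φ (algebraMap K L (σ₁ * σ₂) * η) := by
          rw [hsx, map_add, map_mul φ (algebraMap K L τ), AlgHom.commutes]
        rw [e1]
        linear_combination (φ (algebraMap K L σ * y) + algebraMap K Ω τ * φ (algebraMap K L (σ₁ * σ₂) * η)) * hr'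
  obtain ⟨r, hr, hr'⟩ := key Finset.univ
  rw [← Algebra.norm_eq_prod_embeddings, ← Algebra.norm_eq_prod_embeddings, ← map_sub,
    map_mul (Algebra.norm K) (algebraMap K L σ), map_mul (Algebra.norm K) (algebraMap K L σ),
    Algebra.norm_algebraMap, ← mul_sub] at hr'
  set d := σ ^ Module.finrank K L * (Algebra.norm K x - Algebra.norm K y) with hd
  have hτ0 : τ ≠ 0 := by
    refine mul_ne_zero (fun h => ?_) ht0
    have := (valuation_eq_one_iff_notMem (K := K) W).2 hs₃
    rw [show algebraMap (𝓞 K) K s₃ = 0 from h, map_zero] at this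
    exact zero_ne_one this
  have hq : IsIntegral ℤ (d / τ) := by
    refine (isIntegral_algHom_iff (algebraMap K Ω).toIntAlgHom (algebraMap K Ω).injective).1 ?_
    show IsIntegral ℤ (algebraMap K Ω (d / τ))
    rwa [map_div₀, hr', mul_div_cancel_left₀ _ (by simpa using hτ0)]
  have h4 : W.valuation K (d / τ) ≤ 1 := W.valuation_le_one (⟨_, hq⟩ : 𝓞 K)
  rw [map_div₀, div_le_one₀ (zero_lt_iff.2 ((Valuation.ne_zero_iff _).2 hτ0)), hd, map_mul, map_pow, hσv,
    one_pow, one_mul, map_mul, (valuation_eq_one_iff_notMem W).2 hs₃, one_mul] at h4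
  exact h4

/-- At an unramified place of `k`, units are approximately norms. -/
lemma exists_norm_congr (v : HeightOneSpectrum (𝓞 k))
    (hunr : ∀ Q : HeightOneSpectrum (𝓞 L), under k (under K Q) = v → ramIdx K Q = 1)
    (z : K) (hz : ∀ W : HeightOneSpectrum (𝓞 K), under k W = v → W.valuation K z = 1) (N : ℕ) :
    ∃ x : L, ∀ W : HeightOneSpectrum (𝓞 K), under k W = v → W.valuation K (Algebra.norm K x - z) ≤ exp (-(N : ℤ)) := by
  set S := (finite_places_over (K := K) ({v} : Set (HeightOneSpectrum (𝓞 k))) (Set.finite_singleton v)).toFinset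
  have hS : ∀ W, W ∈ S ↔ under k W = v := fun W => by simp [S]
  have h := fun W (hW : under k W = v) => exists_norm_congr_place (L := L) W (fun Q hQ => hunr Q (hQ.symm ▸ hW)) z (hz W hW) N
  choose! xW hx1 hx2 using h
  set T := (finite_places_over (K := L) ({W | W ∈ S} : Set (HeightOneSpectrum (𝓞 K))) S.finite_toSet).toFinset
  obtain ⟨x, -, hx⟩ := finite_approx T (fun Q => algebraMap L _ (xW (under K Q))) N
  refine ⟨x, fun W hW => ?_⟩
  obtain ⟨π, hπ⟩ := W.valuation_exists_uniformizer K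
  have hπ0 : π ≠ 0 := fun h => by rw [h, map_zero] at hπ; exact exp_ne_zero hπ.symm
  have hη : IntAt W ((x - xW W) * algebraMap K L (π ^ N)⁻¹) := by
    refine IntAt.of_valuation_le fun Q hQ => ?_
    have h1 := hx Q (by simp [T, hQ, (hS W).2 hW])
    rw [← map_sub, hQ] at h1
    have h2 : Q.valuation L (x - xW W) ≤ exp (-(N : ℤ)) := by
      rw [← Q.valuedAdicCompletion_eq_valuation' (x - xW W)]; exact h1
    rw [map_mul, valuation_algebraMap_eq, hQ, hunr Q (by rw [hQ, hW]), pow_one, map_inv₀, map_pow, hπ,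
      ← div_eq_mul_inv, div_le_one₀ (pow_pos exp_pos _), ← exp_nsmul, nsmul_eq_mul, mul_neg, mul_one]
    exact h2
  have hy : IntAt W (xW W) := IntAt.of_valuation_le (hx1 W hW)
  have ht : W.valuation K (π ^ N) ≤ exp (-(N : ℤ)) := by
    rw [map_pow, hπ, ← exp_nsmul, nsmul_eq_mul, mul_neg, mul_one]
  have hex : x = xW W + algebraMap K L (π ^ N) * ((x - xW W) * algebraMap K L (π ^ N)⁻¹) := by
    rw [mul_left_comm, ← map_mul, mul_inv_cancel₀ (pow_ne_zero N hπ0), map_one, mul_one, add_sub_cancel]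
  have h5 := (norm_sub_norm W x (xW W) (π ^ N) hy _ hη hex (ht.trans (by rw [← exp_zero, exp_le_exp]; omega))).trans ht
  rw [show Algebra.norm K x - z = (Algebra.norm K x - Algebra.norm K (xW W)) + (Algebra.norm K (xW W) - z) by ring]
  exact Valuation.map_add_le _ h5 (hx2 W hW)

end Groth.Agent.NFApprox
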