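import Groth.Agent.NFApprox.Hensel
import Mathlib

/-! Decomposition fields have degree one places. -/

set_option autoImplicit false
universe u

open IsDedekindDomain HeightOneSpectrum NumberField Polynomial Pointwise
open scoped Classical

namespace Groth.Agent.NFApprox

variable {K M : Type u} [Field K] [NumberField K] [Field M] [NumberField M] [Algebra K M] [IsGalois K M]
  (w : HeightOneSpectrum (𝓞 K)) (P : Ideal (𝓞 M)) [P.IsPrime] [P.LiesOver w.asIdeal]

include w

/-- An element of the decomposition field separating `P` from its conjugates. -/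
lemma exists_separating :
    ∃ θ : 𝓞 M, θ ∉ P ∧ (∀ σ ∈ MulAction.stabilizer (M ≃ₐ[K] M) P, σ • θ = θ) ∧
      ∀ τ : M ≃ₐ[K] M, τ ∉ MulAction.stabilizer (M ≃ₐ[K] M) P → τ • θ ∈ P := by
  have hP0 : P ≠ ⊥ := Ideal.ne_bot_of_liesOver_of_ne_bot w.ne_bot P
  have hPmax : P.IsMaximal := Ideal.IsPrime.isMaximal ‹P.IsPrime› hP0
  set D := MulAction.stabilizer (M ≃ₐ[K] M) P
  have hsep : ∀ τ : M ≃ₐ[K] M, ∃ x : 𝓞 M, x ∉ P ∧ (τ ∉ D → x ∈ τ • P) := by
    intro τ
    by_cases hτ : τ ∈ D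
    · exact ⟨1, fun h => ‹P.IsPrime›.ne_top ((Ideal.eq_top_iff_one _).2 h), fun h => absurd hτ h⟩
    · obtain ⟨x, hx, hx'⟩ := SetLike.not_le_iff_exists.1 (show ¬ τ • P ≤ P from fun hle =>
        hτ (((Ideal.IsPrime.smul τ).isMaximal (fun h => hP0 (by
          rw [← inv_smul_smul τ P, h]
          exact Ideal.map_bot))).eq_of_le ‹P.IsPrime›.ne_top hle))
      exact ⟨x, hx', fun _ => hx⟩
  choose x hxP hx using hsep
  set θ₀ : 𝓞 M := ∏ τ : M ≃ₐ[K] M, x τ
  refine ⟨∏ δ : D, (δ : M ≃ₐ[K] M) • θ₀, ?_, ?_, ?_⟩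
  · intro h
    obtain ⟨δ, -, hδ⟩ := Ideal.IsPrime.prod_mem_iff.1 h
    have hmem : θ₀ ∈ ((δ : M ≃ₐ[K] M))⁻¹ • P := by
      rw [Ideal.mem_inv_pointwise_smul_iff]; exact hδ
    rw [show ((δ : M ≃ₐ[K] M))⁻¹ • P = P from (D.inv_mem δ.2)] at hmem
    obtain ⟨τ, -, hτ⟩ := Ideal.IsPrime.prod_mem_iff.1 hmem
    exact hxP τ hτ
  · intro σ hσ
    rw [Finset.smul_prod']
    refine Fintype.prod_bijective (fun δ : D => (⟨σ, hσ⟩ : D) * δ) (Group.mulLeft_bijective _) _ _ fun δ => ?_
    rw [smul_smul]; rfl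
  · intro τ hτ
    rw [Finset.smul_prod']
    refine Ideal.prod_mem _ (i := (1 : D)) (Finset.mem_univ _) ?_
    rw [OneMemClass.coe_one, one_smul, ← Ideal.mem_inv_pointwise_smul_iff]
    exact Ideal.prod_mem _ (i := τ⁻¹) (Finset.mem_univ _) (hx _ fun h => hτ (by simpa using D.inv_mem h))

/-- The residue class of a fixed element lies in the residue field of the base. -/
lemma exists_residue_eq {θ : 𝓞 M} (hθ : ∀ σ ∈ MulAction.stabilizer (M ≃ₐ[K] M) P, σ • θ = θ) :
    ∃ c : 𝓞 K, θ - algebraMap (𝓞 K) (𝓞 M) c ∈ P := by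
  have hP0 : P ≠ ⊥ := Ideal.ne_bot_of_liesOver_of_ne_bot w.ne_bot P
  have hPmax : P.IsMaximal := Ideal.IsPrime.isMaximal ‹P.IsPrime› hP0
  have hwmax : w.asIdeal.IsMaximal := w.isMaximal
  letI : Field (𝓞 K ⧸ w.asIdeal) := Ideal.Quotient.field _
  letI : Field (𝓞 M ⧸ P) := Ideal.Quotient.field _
  haveI : Finite (𝓞 M ⧸ P) := Ideal.finiteQuotientOfFreeOfNeBot P hP0
  haveI : Finite (𝓞 K ⧸ w.asIdeal) := Ideal.finiteQuotientOfFreeOfNeBot w.asIdeal w.ne_bot
  have hr : ∃ c, algebraMap (𝓞 K ⧸ w.asIdeal) (𝓞 M ⧸ P) c = Ideal.Quotient.mk P θ := by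
    refine (IsGalois.mem_range_algebraMap_iff_fixed (F := 𝓞 K ⧸ w.asIdeal) (E := 𝓞 M ⧸ P) _).2 fun f => ?_
    obtain ⟨g, rfl⟩ := Ideal.Quotient.stabilizerHom_surjective (M ≃ₐ[K] M) w.asIdeal P f
    rw [Ideal.Quotient.stabilizerHom_apply]
    exact congrArg _ (hθ g g.2)
  obtain ⟨c, hc⟩ := hr
  obtain ⟨c, rfl⟩ := Ideal.Quotient.mk_surjective c
  exact ⟨c, Ideal.Quotient.eq.1 hc.symm⟩

/-- A field fixed by the decomposition group embeds in the completion. -/
theorem exists_algHom_completion_of_fixed (F : IntermediateField K M)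
    (hF : ∀ σ ∈ MulAction.stabilizer (M ≃ₐ[K] M) P, ∀ x ∈ F, σ x = x) :
    Nonempty (F →ₐ[K] w.adicCompletion K) := by
  set D := MulAction.stabilizer (M ≃ₐ[K] M) P
  obtain ⟨θ, hθP, hθD, hθτ⟩ := exists_separating w P
  obtain ⟨c, hc⟩ := exists_residue_eq w P hθD
  set t : M := (θ : M) with ht
  have hcoe : ∀ τ : M ≃ₐ[K] M, τ t = ((τ • θ : 𝓞 M) : M) := fun τ => rfl
  have hint : _root_.IsIntegral (𝓞 K) θ := Algebra.IsIntegral.isIntegral θ
  have hintt : _root_.IsIntegral (𝓞 K) t := hint.map (IsScalarTower.toAlgHom (𝓞 K) (𝓞 M) M)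
  set G := minpoly (𝓞 K) t
  have hGk : minpoly K t = G.map (algebraMap (𝓞 K) K) := minpoly.isIntegrallyClosed_eq_field_fractions' K hintt
  -- values
  have hG0 : G.aeval θ = 0 := by
    apply RingOfIntegers.coe_injective
    rw [map_zero]
    exact ((Polynomial.aeval_algebraMap_apply M θ G).symm).trans (minpoly.aeval (𝓞 K) t)
  have hG1 : (derivative G).aeval θ ∉ P := by
    have hsp : ((minpoly K t).map (algebraMap K M)).Splits := Normal.splits inferInstance t
    have hm : ((minpoly K t).map (algebraMap K M)).Monic := (minpoly.monic (Algebra.IsIntegral.isIntegral t)).map _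
    have hroot : t ∈ ((minpoly K t).map (algebraMap K M)).roots := by
      rw [mem_roots hm.ne_zero, IsRoot, eval_map, ← aeval_def, minpoly.aeval]
    have hd := hsp.eval_root_derivative hm hroot
    rw [derivative_map, eval_map, ← aeval_def, hGk, derivative_map, aeval_map_algebraMap,
      show t = algebraMap (𝓞 M) M θ from rfl, aeval_algebraMap_apply, ← hGk] at hd
    set s := (((minpoly K t).map (algebraMap K M)).roots).erase t with hs
    have hs' : ∀ r ∈ s, ∃ y : 𝓞 M, (y : M) = t - r ∧ y ∉ P := by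
      intro r hr
      have hnd : ((minpoly K t).map (algebraMap K M)).roots.Nodup :=
        nodup_roots (Separable.map (Algebra.IsSeparable.isSeparable K t))
      obtain ⟨hne, hr'⟩ := (hnd.mem_erase_iff).1 hr
      rw [mem_roots hm.ne_zero, IsRoot, eval_map, ← aeval_def] at hr'
      obtain ⟨τ, hτ⟩ := (Normal.minpoly_eq_iff_mem_orbit M).1
        ((minpoly.eq_of_irreducible_of_monic (minpoly.irreducible (Algebra.IsIntegral.isIntegral t)) hr'
          (minpoly.monic (Algebra.IsIntegral.isIntegral t))).symm)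
      refine ⟨θ - τ • θ, (map_sub (algebraMap (𝓞 M) M) θ (τ • θ)).trans (congrArg (t - ·) ((hcoe τ).symm.trans hτ)), fun h => hθP ?_⟩
      have hτD : τ ∉ D := fun hτD => hne (by
        rw [← hτ]; show τ t = t; rw [hcoe, hθD τ hτD])
      simpa using P.add_mem h (hθτ τ hτD)
    choose y hy hyP using hs'
    have hprod : (derivative G).aeval θ = (s.attach.map fun r => y r.1 r.2).prod := by
      apply RingOfIntegers.coe_injective
      refine hd.trans ?_
      rw [map_multiset_prod, Multiset.map_map]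
      congr 1
      conv_lhs => rw [← Multiset.attach_map_val s, Multiset.map_map]
      exact Multiset.map_congr rfl fun r _ => (hy r.1 r.2).symm
    rw [hprod]
    intro h
    obtain ⟨z, hz, hzP⟩ := (Ideal.IsPrime.multiset_prod_mem_iff_exists_mem ‹P.IsPrime› _).1 h
    obtain ⟨r, -, rfl⟩ := Multiset.mem_map.1 hz
    exact hyP _ _ hzP
  -- Hensel
  have hev : ∀ Q : (𝓞 K)[X], Q.aeval θ - algebraMap (𝓞 K) (𝓞 M) (Q.eval c) ∈ P := by
    intro Q
    rw [← aeval_algebraMap_apply_eq_algebraMap_eval]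
    refine P.mem_of_dvd ?_ hc
    rw [aeval_def, aeval_def, ← eval_map, ← eval_map]
    exact sub_dvd_eval_sub _ _ _
  have h1 : G.eval c ∈ w.asIdeal := by
    rw [Ideal.mem_of_liesOver P w.asIdeal]
    have := hev G
    rwa [hG0, zero_sub, neg_mem_iff] at this
  have h2 : (derivative G).eval c ∉ w.asIdeal := by
    rw [Ideal.mem_of_liesOver P w.asIdeal]
    intro h
    exact hG1 (by simpa using P.add_mem (hev (derivative G)) h)
  obtain ⟨r, hr⟩ := exists_root_of_valuation w (minpoly K t) (minpoly.monic (Algebra.IsIntegral.isIntegral t))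
    (fun i => by rw [hGk, coeff_map]; exact w.valuation_le_one _) (c : K) (w.valuation_le_one _)
    (by rw [hGk, eval_map, eval₂_at_apply, valuation_lt_one_iff_mem]; exact h1)
    (by
      rw [hGk, derivative_map, eval_map, eval₂_at_apply]
      exact le_antisymm (w.valuation_le_one _) (not_lt.1 fun h => h2 ((w.valuation_lt_one_iff_mem _).1 h)))
  have hle : F ≤ IntermediateField.adjoin K {t} := by
    rw [← IsGalois.fixedField_fixingSubgroup (IntermediateField.adjoin K {t})]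
    intro x hx σ
    have hσ : (σ : M ≃ₐ[K] M) t = t := σ.2 ⟨t, IntermediateField.mem_adjoin_simple_self K t⟩
    refine hF σ ?_ x hx
    by_contra hD
    refine hθP ?_
    have : (σ : M ≃ₐ[K] M) • θ = θ := RingOfIntegers.coe_injective ((hcoe σ).symm.trans hσ)
    exact this ▸ hθτ _ hD
  have hti : _root_.IsIntegral K t := Algebra.IsIntegral.isIntegral t
  exact ⟨(((IntermediateField.adjoin.powerBasis hti).lift r (by
    rw [IntermediateField.adjoin.powerBasis_gen, IntermediateField.minpoly_gen]; exact hr))).comp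
      (IntermediateField.inclusion hle)⟩

/-- With trivial inertia the decomposition group is cyclic. -/
theorem isCyclic_stabilizer (hI : P.inertia (M ≃ₐ[K] M) = ⊥) :
    IsCyclic (MulAction.stabilizer (M ≃ₐ[K] M) P) := by
  have hP0 : P ≠ ⊥ := Ideal.ne_bot_of_liesOver_of_ne_bot w.ne_bot P
  have hPmax : P.IsMaximal := Ideal.IsPrime.isMaximal ‹P.IsPrime› hP0
  have hwmax : w.asIdeal.IsMaximal := w.isMaximal
  letI : Field (𝓞 K ⧸ w.asIdeal) := Ideal.Quotient.field _
  letI : Field (𝓞 M ⧸ P) := Ideal.Quotient.field _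
  haveI : Finite (𝓞 M ⧸ P) := Ideal.finiteQuotientOfFreeOfNeBot P hP0
  refine isCyclic_of_injective (Ideal.Quotient.stabilizerHom P w.asIdeal (M ≃ₐ[K] M)) ?_
  rw [← MonoidHom.ker_eq_bot_iff]
  refine Subgroup.map_injective (Subgroup.subtype_injective _) ?_
  rw [Ideal.Quotient.map_ker_stabilizer_subtype, hI, Subgroup.map_bot]

/-- Inertia fixes an unramified subextension. -/
theorem inertia_fixes {L : Type u} [Field L] [NumberField L] [Algebra K L] (φ : L →ₐ[K] M)
    (hL : ∀ Q : Ideal (𝓞 L), Q.IsPrime → Q.LiesOver w.asIdeal → Q.ramificationIdx (𝓞 K) = 1)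
    {σ : M ≃ₐ[K] M} (hσ : σ ∈ P.inertia (M ≃ₐ[K] M)) (x : L) : σ (φ x) = φ x := by
  letI : Algebra L M := φ.toRingHom.toAlgebra
  haveI : IsScalarTower K L M := IsScalarTower.of_algebraMap_eq fun a => (φ.commutes a).symm
  haveI : IsGalois L M := IsGalois.tower_top_of_isGalois K L M
  haveI : FiniteDimensional L M := FiniteDimensional.right K L M
  set q : Ideal (𝓞 L) := P.under (𝓞 L)
  haveI : P.LiesOver q := ⟨rfl⟩
  haveI : q.LiesOver w.asIdeal := Ideal.LiesOver.tower_bot P q w.asIdeal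
  haveI : q.IsPrime := Ideal.IsPrime.under (𝓞 L) P
  have hwmax : w.asIdeal.IsMaximal := w.isMaximal
  have hq0 : q ≠ ⊥ := Ideal.ne_bot_of_liesOver_of_ne_bot w.ne_bot q
  have hqmax : q.IsMaximal := Ideal.IsPrime.isMaximal ‹q.IsPrime› hq0
  haveI : Finite (𝓞 L ⧸ q) := Ideal.finiteQuotientOfFreeOfNeBot q hq0
  haveI : Finite (𝓞 K ⧸ w.asIdeal) := Ideal.finiteQuotientOfFreeOfNeBot w.asIdeal w.ne_bot
  let ι : (M ≃ₐ[L] M) →* (M ≃ₐ[K] M) :=
    { toFun := fun τ => τ.restrictScalars K, map_one' := rfl, map_mul' := fun _ _ => rfl }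
  have hι : Function.Injective ι := fun a b h => AlgEquiv.ext fun y => AlgEquiv.congr_fun h y
  have hmap : (P.inertia (M ≃ₐ[L] M)).map ι ≤ P.inertia (M ≃ₐ[K] M) := by
    rintro _ ⟨τ, hτ, rfl⟩ y
    exact hτ y
  have hcard : Nat.card ((P.inertia (M ≃ₐ[L] M)).map ι) = Nat.card (P.inertia (M ≃ₐ[K] M)) := by
    rw [Subgroup.card_map_of_injective hι, Ideal.card_inertia_eq_ramificationIdxIn q P,
      Ideal.card_inertia_eq_ramificationIdxIn w.asIdeal P,
      Ideal.ramificationIdxIn_eq_ramificationIdx q P (M ≃ₐ[L] M),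
      Ideal.ramificationIdxIn_eq_ramificationIdx w.asIdeal P (M ≃ₐ[K] M),
      Ideal.ramificationIdx_tower (R := 𝓞 K) q P, hL q inferInstance inferInstance, one_mul]
  have heq := Subgroup.eq_of_le_of_card_ge hmap hcard.ge
  rw [← heq] at hσ
  obtain ⟨τ, -, rfl⟩ := hσ
  exact τ.commutes x

end Groth.Agent.NFApprox
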