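import Groth.Agent.NFApprox.Places

/-! Degree one places: criterion and existence. -/

set_option autoImplicit false
universe u

open IsDedekindDomain HeightOneSpectrum NumberField WithZero Polynomial
open scoped Classical

namespace Groth.Agent.NFApprox

variable {k : Type u} [Field k] [NumberField k]

/-- The power basis of a primitive element. -/
noncomputable def pbOfTop {L : Type u} [Field L] [Algebra k L] [FiniteDimensional k L] (x : L)
    (h : IntermediateField.adjoin k {x} = ⊤) : PowerBasis k L :=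
  (IntermediateField.adjoin.powerBasis (Algebra.IsIntegral.isIntegral x)).map
    ((IntermediateField.equivOfEq h).trans IntermediateField.topEquiv)

lemma pbOfTop_gen {L : Type u} [Field L] [Algebra k L] [FiniteDimensional k L] (x : L)
    (h : IntermediateField.adjoin k {x} = ⊤) : (pbOfTop x h).gen = x := by
  simp [pbOfTop]

lemma norm_sub {L : Type u} [Field L] [Algebra k L] [FiniteDimensional k L] (x : L)
    (h : IntermediateField.adjoin k {x} = ⊤) (c : k) :
    Algebra.norm k (algebraMap k L c - x) = (minpoly k x).eval c := by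
  set pb := pbOfTop x h
  rw [Algebra.norm_eq_matrix_det pb.basis, map_sub, AlgHom.commutes, Matrix.algebraMap_eq_diagonal]
  have := charpoly_leftMulMatrix pb
  rw [pbOfTop_gen] at this
  rw [← this, Matrix.eval_charpoly]
  rfl

/-- A primitive element with a root in an extension gives an embedding. -/
lemma nonempty_algHom_of_root {L : Type u} [Field L] [Algebra k L] [FiniteDimensional k L] (x : L)
    (h : IntermediateField.adjoin k {x} = ⊤) {R : Type u} [Field R] [Algebra k R] {r : R}
    (hr : aeval r (minpoly k x) = 0) : Nonempty (L →ₐ[k] R) :=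
  ⟨(pbOfTop x h).lift r (by rwa [pbOfTop_gen])⟩

lemma valuation_eval_le (v : HeightOneSpectrum (𝓞 k)) {P : k[X]} (hP : ∀ i, v.valuation k (P.coeff i) ≤ 1)
    {c : k} (hc : v.valuation k c ≤ 1) : v.valuation k (P.eval c) ≤ 1 := by
  rw [eval_eq_sum_range]
  refine Valuation.map_sum_le _ fun i _ => ?_
  rw [map_mul, map_pow]
  exact mul_le_one' (hP i) (pow_le_one' hc i)

lemma finite_coeff_bad (P : k[X]) :
    {v : HeightOneSpectrum (𝓞 k) | ∃ i, 1 < v.valuation k (P.coeff i)}.Finite := by
  refine ((Set.finite_le_nat P.natDegree).biUnion fun i _ => HeightOneSpectrum.Support.finite (𝓞 k) (P.coeff i)).subset ?_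
  rintro v ⟨i, hi⟩
  refine Set.mem_iUnion₂.2 ⟨i, le_natDegree_of_ne_zero fun h => ?_, hi⟩
  rw [h, map_zero] at hi; exact not_lt_zero hi

/-- Outside a finite set, places where `minpoly x` has an approximate root have degree one in `k(x)`. -/
lemma exists_good_set {L : Type u} [Field L] [Algebra k L] [FiniteDimensional k L] (x : L)
    (h : IntermediateField.adjoin k {x} = ⊤) :
    ∃ B : Finset (HeightOneSpectrum (𝓞 k)), ∀ v ∉ B, ∀ c : k, v.valuation k c ≤ 1 →
      v.valuation k ((minpoly k x).eval c) < 1 → Nonempty (L →ₐ[k] v.adicCompletion k) := by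
  set g := minpoly k x
  have hsep : g.Separable := Algebra.IsSeparable.isSeparable k x
  obtain ⟨a, b, hab⟩ := hsep
  refine ⟨((finite_coeff_bad g).union ((finite_coeff_bad a).union (finite_coeff_bad b))).toFinset,
    fun v hv c hc h1 => ?_⟩
  simp only [Set.Finite.mem_toFinset, Set.mem_union, Set.mem_ofPred_eq, not_or, not_exists, not_lt] at hv
  obtain ⟨hg, ha, hb⟩ := hv
  have h2 : v.valuation k ((derivative g).eval c) = 1 := by
    refine le_antisymm (valuation_eval_le v (fun i => ?_) hc) ?_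
    · rw [coeff_derivative, map_mul]
      refine mul_le_one' (hg _) ?_
      rw [show ((i : k) + 1) = algebraMap (𝓞 k) k ((i + 1 : ℕ) : 𝓞 k) by simp]
      exact v.valuation_le_one _
    · by_contra hlt
      push Not at hlt
      have := congrArg (Polynomial.eval c) hab
      rw [eval_add, eval_mul, eval_mul, eval_one] at this
      have e1 : v.valuation k (a.eval c * g.eval c + b.eval c * (derivative g).eval c) < 1 := by
        refine Valuation.map_add_lt _ ?_ ?_
        · rw [map_mul]; exact mul_lt_one_of_nonneg_of_lt_one_right (valuation_eval_le v ha hc) zero_le h1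
        · rw [map_mul]; exact mul_lt_one_of_nonneg_of_lt_one_right (valuation_eval_le v hb hc) zero_le hlt
      rw [this, map_one] at e1
      exact lt_irrefl _ e1
  obtain ⟨r, hr⟩ := exists_root_of_valuation v g (minpoly.monic (Algebra.IsIntegral.isIntegral x)) hg c hc h1 h2
  exact nonempty_algHom_of_root x h hr

/-- A monic polynomial with `v`-integral coefficients is a unit at some small natural number. -/
lemma exists_eval_unit (v : HeightOneSpectrum (𝓞 k)) {g : k[X]} (hg : g.Monic)
    (hint : ∀ i, v.valuation k (g.coeff i) ≤ 1) {d : ℕ} (hd : g.natDegree ≤ d)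
    (hv : v.valuation k (d.factorial : k) = 1) :
    ∃ j ≤ d, v.valuation k (g.eval (j : k)) = 1 := by
  by_contra hcon
  push Not at hcon
  set A := (v.valuation k).valuationSubring
  obtain ⟨G, hG, hGd, hGm⟩ := lifts_and_degree_eq_and_monic (f := algebraMap A k)
    ((lifts_iff_coeff_lifts _).2 fun i => ⟨⟨g.coeff i, hint i⟩, rfl⟩) hg
  set π := IsLocalRing.residue A
  have hlt : ∀ a : A, v.valuation k (a : k) < 1 → π a = 0 := fun a ha => by
    rw [IsLocalRing.residue_eq_zero_iff, IsLocalRing.mem_maximalIdeal, mem_nonunits_iff]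
    intro hu
    obtain ⟨b, hb⟩ := hu.exists_right_inv
    have hb' : (a : k) * b = 1 := by exact_mod_cast hb
    have e1 := congrArg (v.valuation k) hb'
    rw [map_mul, map_one] at e1
    have : v.valuation k (b : k) ≤ 1 := b.2
    exact (mul_lt_one_of_nonneg_of_lt_one_left zero_le ha this).ne e1
  have hroot : ∀ j ≤ d, (G.map π).eval (j : IsLocalRing.ResidueField A) = 0 := by
    intro j hj
    rw [← map_natCast π, eval_map, eval₂_at_apply]
    refine hlt _ (lt_of_le_of_ne ((G.eval (j : A)).2) ?_)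
    have : ((G.eval (j : A) : A) : k) = g.eval (j : k) := by
      rw [← hG, eval_map, ← map_natCast (algebraMap A k), eval₂_at_apply]; rfl
    rw [this]; exact hcon j hj
  have hinj : Set.InjOn (fun j : ℕ => (j : IsLocalRing.ResidueField A)) (Finset.range (d + 1) : Finset ℕ) := by
    intro i hi j hj hij
    by_contra hne
    wlog hlt' : i < j generalizing i j
    · exact this hj hi hij.symm (Ne.symm hne) (by omega)
    simp only [Finset.coe_range, Set.mem_Iio] at hi hj
    simp only at hij
    have h0 : π ((j - i : ℕ) : A) = 0 := by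
      rw [map_natCast, Nat.cast_sub hlt'.le, hij, sub_self]
    rw [IsLocalRing.residue_eq_zero_iff, IsLocalRing.mem_maximalIdeal, mem_nonunits_iff] at h0
    obtain ⟨e, he⟩ := Nat.dvd_factorial (show 0 < j - i by omega) (show j - i ≤ d by omega)
    refine h0 ?_
    have hu : IsUnit ((d.factorial : A)) := by
      have hne0 : (d.factorial : k) ≠ 0 := by exact_mod_cast d.factorial_ne_zero
      refine IsUnit.of_mul_eq_one (⟨(d.factorial : k)⁻¹, ?_⟩ : A) ?_
      · show v.valuation k _ ≤ 1
        rw [map_inv₀, hv, inv_one]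
      · apply Subtype.ext; push_cast; exact mul_inv_cancel₀ hne0
    rw [he, Nat.cast_mul] at hu
    exact isUnit_of_mul_isUnit_left hu
  have hGp : (G.map π) ≠ 0 := (hGm.map π).ne_zero
  have h1 := card_le_degree_of_subset_roots (p := G.map π)
    (Z := Finset.image (fun j : ℕ => (j : IsLocalRing.ResidueField A)) (Finset.range (d + 1))) (fun z hz => by
      simp only [Finset.image_val, Multiset.mem_dedup, Multiset.mem_map, Finset.range_val, Multiset.mem_range] at hz
      obtain ⟨j, hj, rfl⟩ := hz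
      exact (mem_roots hGp).2 (hroot j (by omega)))
  rw [Finset.card_image_of_injOn hinj, Finset.card_range, hGm.natDegree_map] at h1
  rw [natDegree_eq_of_degree_eq hGd] at h1
  omega

/-- There is a place of degree one outside any finite set. -/
lemma exists_degree_one (M : Type u) [Field M] [NumberField M] [Algebra k M] (F : Finset (HeightOneSpectrum (𝓞 k))) :
    ∃ v ∉ F, Nonempty (M →ₐ[k] v.adicCompletion k) := by
  obtain ⟨α, hα⟩ := Field.exists_primitive_element k M
  obtain ⟨θ, hθ, hθ0, hθi⟩ : ∃ θ : M, IntermediateField.adjoin k {θ} = ⊤ ∧ θ ≠ 0 ∧ IsIntegral (𝓞 k) θ := by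
    rcases eq_or_ne α 0 with rfl | h0
    · refine ⟨1, ?_, one_ne_zero, isIntegral_one⟩
      rw [IntermediateField.adjoin_zero] at hα
      exact eq_top_iff.2 (hα ▸ bot_le)
    · obtain ⟨y, hy, hyi⟩ := exists_integral_multiples (𝓞 k) k {α}
      have hy0 : algebraMap (𝓞 k) k y ≠ 0 := by simpa using hy
      refine ⟨algebraMap k M (algebraMap (𝓞 k) k y) * α, ?_, mul_ne_zero (by simpa using hy0) h0, ?_⟩
      · refine eq_top_iff.2 (hα ▸ IntermediateField.adjoin_le_iff.2 ?_)
        intro x hx
        rw [Set.mem_singleton_iff.1 hx]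
        have h1 := IntermediateField.mem_adjoin_simple_self k (algebraMap k M (algebraMap (𝓞 k) k y) * α)
        have h2 := mul_mem h1 (inv_mem ((IntermediateField.adjoin k {algebraMap k M (algebraMap (𝓞 k) k y) * α}).algebraMap_mem (algebraMap (𝓞 k) k y)))
        rwa [mul_right_comm, mul_inv_cancel₀ (by simpa using hy0), one_mul] at h2
      · have := hyi α (by simp)
        rwa [Algebra.smul_def, IsScalarTower.algebraMap_apply (𝓞 k) k M] at this
  obtain ⟨B, hB⟩ := exists_good_set θ hθ
  set G := minpoly (𝓞 k) θ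
  have hGk : minpoly k θ = G.map (algebraMap (𝓞 k) k) := minpoly.isIntegrallyClosed_eq_field_fractions' k hθi
  have hdeg : 0 < G.natDegree := minpoly.natDegree_pos hθi
  have ha0 : G.eval 0 ≠ 0 := by
    intro h
    refine minpoly.coeff_zero_ne_zero (A := k) (Algebra.IsIntegral.isIntegral θ) hθ0 ?_
    rw [hGk, coeff_map, coeff_zero_eq_eval_zero, h, map_zero]
  obtain ⟨Z, hZ, hZ0⟩ : ∃ x ∈ ∏ v ∈ B ∪ F, v.asIdeal, x ≠ 0 := by
    refine Submodule.exists_mem_ne_zero_of_ne_bot ?_
    exact Finset.prod_ne_zero_iff.2 fun v _ => v.ne_bot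
  set a₀ := G.eval 0
  have hu : ∀ n : ℕ, ∃ u : 𝓞 k, G.eval (a₀ * Z * n) = a₀ * (1 + Z * u) := fun n => by
    obtain ⟨Q, hQ⟩ : X ∣ G - C a₀ := by rw [X_dvd_iff]; simp [a₀, coeff_zero_eq_eval_zero]
    refine ⟨(n : 𝓞 k) * Q.eval (a₀ * Z * n), ?_⟩
    have := congrArg (Polynomial.eval (a₀ * Z * n)) hQ
    rw [eval_sub, eval_C, eval_mul, eval_X] at this
    linear_combination this
  choose u hu using hu
  obtain ⟨n, hn, hne⟩ : ∃ n, ¬ IsUnit (1 + Z * u n) ∧ 1 + Z * u n ≠ 0 := by
    by_contra hall
    push Not at hall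
    set Bd : ℝ := ∏ σ : k →ₐ[ℚ] ℂ, ‖σ (a₀ : k)‖
    have hconst : ∀ n : ℕ, IsUnit (1 + Z * u n) → ∏ σ : k →ₐ[ℚ] ℂ, ‖σ ((G.eval (a₀ * Z * n) : 𝓞 k) : k)‖ = Bd := by
      intro n hunit
      rw [hu]
      push_cast
      simp only [map_mul, norm_mul, Finset.prod_mul_distrib]
      convert mul_one Bd using 2
      rw [← norm_prod, ← Algebra.norm_eq_prod_embeddings]
      have := (NumberField.isUnit_iff_norm).1 hunit
      rw [RingOfIntegers.coe_norm] at this
      push_cast at this
      rw [eq_ratCast, Complex.norm_ratCast, ← Rat.cast_abs, this, Rat.cast_one]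
    have hev : ∀ σ : k →ₐ[ℚ] ℂ, Filter.Tendsto (fun n : ℕ => ‖σ ((G.eval (a₀ * Z * n) : 𝓞 k) : k)‖) Filter.atTop Filter.atTop := by
      intro σ
      have h1 : ∀ n : ℕ, σ ((G.eval (a₀ * Z * n) : 𝓞 k) : k) =
          (G.map ((σ : k →+* ℂ).comp (algebraMap (𝓞 k) k))).eval (σ ((a₀ * Z : 𝓞 k) : k) * n) := fun n => by
        have : σ ((a₀ * Z : 𝓞 k) : k) * n = ((σ : k →+* ℂ).comp (algebraMap (𝓞 k) k)) (a₀ * Z * n) := by simp
        rw [this, eval_map, eval₂_at_apply]; rfl
      simp only [h1]
      refine Polynomial.tendsto_norm_atTop _ ?_ ?_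
      · rw [← natDegree_pos_iff_degree_pos, natDegree_map_eq_of_injective]
        · exact hdeg
        · exact (σ : k →+* ℂ).injective.comp (IsFractionRing.injective _ _)
      · simp only [norm_mul, Complex.norm_natCast]
        refine Filter.Tendsto.const_mul_atTop ?_ tendsto_natCast_atTop_atTop
        rw [norm_pos_iff]
        simp [ha0, hZ0]
    have hge := fun σ : k →ₐ[ℚ] ℂ => (hev σ).eventually_ge_atTop (Bd + 2)
    obtain ⟨n, hn⟩ := (Filter.eventually_all.2 hge).exists
    have hBd : 0 ≤ Bd := Finset.prod_nonneg fun σ _ => norm_nonneg _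
    obtain ⟨σ₀⟩ : Nonempty (k →ₐ[ℚ] ℂ) := ⟨IsAlgClosed.lift⟩
    have hle : ∀ σ : k →ₐ[ℚ] ℂ, σ ≠ σ₀ → 1 ≤ ‖σ ((G.eval (a₀ * Z * n) : 𝓞 k) : k)‖ := fun σ _ => by linarith [hn σ]
    have hz : 1 + Z * u n ≠ 0 := fun h => by
      have := hn σ₀
      rw [hu, h, mul_zero] at this
      simp at this
      linarith
    have := hconst n (by by_contra hnu; exact hz (hall n hnu))
    rw [← Finset.mul_prod_erase _ _ (Finset.mem_univ σ₀)] at this
    have h2 : 1 ≤ ∏ σ ∈ Finset.univ.erase σ₀, ‖σ ((G.eval (a₀ * Z * n) : 𝓞 k) : k)‖ :=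
      Finset.one_le_prod fun σ hσ => hle σ (Finset.ne_of_mem_erase hσ)
    nlinarith [hn σ₀]
  obtain ⟨P, hP, hPle⟩ := Ideal.exists_le_maximal _ (show Ideal.span {1 + Z * u n} ≠ ⊤ by
    rwa [ne_eq, Ideal.span_singleton_eq_top])
  have hmem : 1 + Z * u n ∈ P := hPle (Ideal.mem_span_singleton_self _)
  have hPne : P ≠ ⊥ := fun h => hne (by rw [h] at hmem; exact hmem)
  set v : HeightOneSpectrum (𝓞 k) := ⟨P, hP.isPrime, hPne⟩
  have hvBF : v ∉ B ∪ F := fun hv => by
    have hZv : Z ∈ v.asIdeal := Ideal.le_of_dvd (Finset.dvd_prod_of_mem _ hv) hZ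
    refine v.isPrime.ne_top ((Ideal.eq_top_iff_one _).2 ?_)
    have := v.asIdeal.sub_mem (show 1 + Z * u n ∈ v.asIdeal from hmem) (v.asIdeal.mul_mem_right (u n) hZv)
    rwa [add_sub_cancel_right] at this
  simp only [Finset.mem_union, not_or] at hvBF
  refine ⟨v, hvBF.2, hB v hvBF.1 ((a₀ * Z * n : 𝓞 k) : k) (v.valuation_le_one _) ?_⟩
  rw [hGk, eval_map, eval₂_at_apply, valuation_lt_one_iff_mem, hu]
  exact Ideal.mul_mem_left _ _ hmem

end Groth.Agent.NFApprox
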