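import Mathlib

/-! The integers of an adic completion are Henselian; embeddings of degree one places. -/

set_option autoImplicit false
universe u

open IsDedekindDomain HeightOneSpectrum NumberField WithZero Filter Polynomial
open scoped Topology

namespace Groth.Agent.NFApprox

variable {k : Type u} [Field k] [NumberField k] (v : HeightOneSpectrum (𝓞 k))

lemma mem_maximalIdeal_pow_iff (x : v.adicCompletionIntegers k) (n : ℕ) :
    x ∈ IsLocalRing.maximalIdeal (v.adicCompletionIntegers k) ^ n ↔
      Valued.v (x : v.adicCompletion k) ≤ exp (-(n : ℤ)) := by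
  obtain ⟨π, hπ⟩ := v.valuedAdicCompletion_surjective k (exp (-1))
  have hπi : π ∈ v.adicCompletionIntegers k := by
    rw [mem_adicCompletionIntegers, hπ, ← exp_zero]; exact exp_le_exp.2 (by omega)
  have hπ0 : π ≠ 0 := fun h => by rw [h, map_zero] at hπ; exact exp_ne_zero hπ.symm
  have hmax : IsLocalRing.maximalIdeal (v.adicCompletionIntegers k) = Ideal.span {⟨π, hπi⟩} := by
    refine le_antisymm (fun y hy => ?_) ((Ideal.span_singleton_le_iff_mem _).2 ?_)
    · have hy1 : Valued.v (y : v.adicCompletion k) < 1 := by
        rcases lt_or_eq_of_le ((mem_adicCompletionIntegers _ _ v).1 y.2) with h | h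
        · exact h
        · exact absurd ((adicCompletionIntegers.isUnit_iff_valued_eq_one (v := v)).2 h) hy
      refine Ideal.mem_span_singleton'.2 ⟨⟨(y : v.adicCompletion k) / π, ?_⟩, ?_⟩
      · rw [mem_adicCompletionIntegers, map_div₀, hπ, div_le_one₀ exp_pos]
        rcases eq_or_ne (Valued.v (y : v.adicCompletion k)) 0 with h | h
        · rw [h]; exact zero_le
        · rw [← exp_log h] at hy1 ⊢; rw [← exp_zero, exp_lt_exp] at hy1; exact exp_le_exp.2 (by omega)
      · apply Subtype.ext; simp [div_mul_cancel₀ _ hπ0]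
    · intro h
      have := (adicCompletionIntegers.isUnit_iff_valued_eq_one (v := v)).1 h
      simp only at this
      rw [hπ, ← exp_zero, exp_inj] at this
      omega
  rw [hmax, Ideal.span_singleton_pow, Ideal.mem_span_singleton']
  constructor
  · rintro ⟨a, rfl⟩
    push_cast
    rw [map_mul, map_pow, hπ, ← exp_nsmul, nsmul_eq_mul, mul_neg, mul_one]
    exact mul_le_of_le_one_left' ((mem_adicCompletionIntegers _ _ v).1 a.2)
  · intro h
    refine ⟨⟨(x : v.adicCompletion k) / π ^ n, ?_⟩, ?_⟩
    · rw [mem_adicCompletionIntegers, map_div₀, map_pow, hπ, ← exp_nsmul, nsmul_eq_mul, mul_neg, mul_one,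
        div_le_one₀ exp_pos]
      exact h
    · apply Subtype.ext; simp [div_mul_cancel₀ _ (pow_ne_zero n hπ0)]

instance : IsAdicComplete (IsLocalRing.maximalIdeal (v.adicCompletionIntegers k)) (v.adicCompletionIntegers k) where
  haus' x hx := by
    by_contra hne
    have h0 : Valued.v (x : v.adicCompletion k) ≠ 0 := by simpa using hne
    set n := (-(log (Valued.v (x : v.adicCompletion k)))).toNat + 1 with hn
    have := hx n
    rw [SModEq.zero, smul_eq_mul, Ideal.mul_top, mem_maximalIdeal_pow_iff, ← exp_log h0, exp_le_exp] at this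
    omega
  prec' f hf := by
    have hf' : ∀ {m n}, m ≤ n → Valued.v ((f m : v.adicCompletion k) - f n) ≤ exp (-(m : ℤ)) := by
      intro m n h
      have := hf h
      rw [SModEq.sub_mem, smul_eq_mul, Ideal.mul_top, mem_maximalIdeal_pow_iff] at this
      simpa using this
    have hc : CauchySeq fun n => (f n : v.adicCompletion k) := by
      rw [CauchySeq, Valued.cauchy_iff]
      refine ⟨inferInstance, fun γ => ?_⟩
      set g := MonoidWithZeroHom.ValueGroup₀.embedding γ.1 with hg
      have hg0 : g ≠ 0 := by rw [hg]; simp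
      obtain ⟨N, hN⟩ : ∃ N : ℕ, exp (-(N : ℤ)) < g :=
        ⟨(-(log g)).toNat + 1, by conv_rhs => rw [← exp_log hg0]
                                  exact exp_lt_exp.2 (by omega)⟩
      refine ⟨(fun n => (f n : v.adicCompletion k)) '' Set.Ici N, ?_, ?_⟩
      · exact Filter.image_mem_map (mem_atTop N)
      · rintro _ ⟨a, ha, rfl⟩ _ ⟨b, hb, rfl⟩
        rw [Valuation.restrict_lt_iff_lt_embedding, ← hg]
        refine lt_of_le_of_lt ?_ hN
        rw [show (f b : v.adicCompletion k) - f a = ((f b : v.adicCompletion k) - f N) + ((f N : v.adicCompletion k) - f a) by ring]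
        exact Valuation.map_add_le _ (by rw [Valuation.map_sub_swap]; exact hf' hb) (hf' ha)
    obtain ⟨L, hL⟩ := cauchySeq_tendsto_of_complete hc
    have hLn : ∀ n, Valued.v (L - f n) ≤ exp (-(n : ℤ)) := by
      intro n
      obtain ⟨π, hπ⟩ := v.valuedAdicCompletion_surjective k (exp (-(n : ℤ)))
      have hclosed : IsClosed {y : v.adicCompletion k | Valued.v y ≤ Valued.v π} := by
        convert (Valued.isClopen_closedBall (R := v.adicCompletion k)
          (r := (Valued.v : Valuation (v.adicCompletion k) ℤᵐ⁰).restrict π) ?_).1 using 1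
        · ext y; simp [Valuation.restrict_le_iff]
        · simp only [ne_eq, map_eq_zero]
          intro h; rw [h, map_zero] at hπ; exact exp_ne_zero hπ.symm
      have h := (hclosed.preimage (show Continuous fun y => y - (f n : v.adicCompletion k) by fun_prop)).mem_of_tendsto
        hL (eventually_atTop.2 ⟨n, fun b hb => by
          show Valued.v ((f b : v.adicCompletion k) - f n) ≤ Valued.v π
          rw [hπ, Valuation.map_sub_swap]; exact hf' hb⟩)
      rw [← hπ]; exact h
    have hLi : L ∈ v.adicCompletionIntegers k := by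
      rw [mem_adicCompletionIntegers, show L = (L - f 0) + f 0 by ring]
      exact Valuation.map_add_le _ ((hLn 0).trans (by simp)) ((mem_adicCompletionIntegers _ _ v).1 (f 0).2)
    refine ⟨⟨L, hLi⟩, fun n => ?_⟩
    rw [SModEq.sub_mem, smul_eq_mul, Ideal.mul_top, mem_maximalIdeal_pow_iff]
    push_cast
    rw [Valuation.map_sub_swap]
    exact hLn n

instance : HenselianLocalRing (v.adicCompletionIntegers k) where
  is_henselian f hf a₀ h₁ h₂ :=
    (IsAdicComplete.henselianRing (v.adicCompletionIntegers k) (IsLocalRing.maximalIdeal _)).is_henselian f hf a₀ h₁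
      (h₂.map _)

/-- A simple approximate root gives a root in the completion. -/
lemma exists_root_of_valuation (g : k[X]) (hg : g.Monic) (hint : ∀ i, v.valuation k (g.coeff i) ≤ 1) (c : k)
    (hc : v.valuation k c ≤ 1) (h₁ : v.valuation k (g.eval c) < 1)
    (h₂ : v.valuation k ((derivative g).eval c) = 1) :
    ∃ r : v.adicCompletion k, aeval r g = 0 := by
  set A := v.adicCompletionIntegers k
  set φ := algebraMap k (v.adicCompletion k)
  have hval : ∀ x : k, Valued.v (φ x) = v.valuation k x := fun x => v.valuedAdicCompletion_eq_valuation' x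
  have hlift : g.map φ ∈ Polynomial.lifts (algebraMap A (v.adicCompletion k)) := by
    rw [lifts_iff_coeff_lifts]
    intro i
    exact ⟨⟨φ (g.coeff i), by rw [mem_adicCompletionIntegers, hval]; exact hint i⟩, by rw [coeff_map]; rfl⟩
  obtain ⟨G, hG, -, hGm⟩ := lifts_and_degree_eq_and_monic hlift (hg.map _)
  set c' : A := ⟨φ c, by rw [mem_adicCompletionIntegers, hval]; exact hc⟩
  have he : ∀ P : Polynomial A, ((P.eval c' : A) : v.adicCompletion k) =
      (P.map (algebraMap A (v.adicCompletion k))).eval (φ c) := fun P => by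
    rw [eval_map]; exact Polynomial.hom_eval₂ P (RingHom.id A) (algebraMap A _) c'
  obtain ⟨r, hr, -⟩ := HenselianLocalRing.is_henselian G hGm c' (by
    rw [← pow_one (IsLocalRing.maximalIdeal A), mem_maximalIdeal_pow_iff, he, hG, eval_map, eval₂_at_apply, hval]
    rcases eq_or_ne (v.valuation k (g.eval c)) 0 with h | h
    · rw [h]; exact zero_le
    · rw [← exp_log h] at h₁ ⊢; rw [← exp_zero, exp_lt_exp] at h₁; exact exp_le_exp.2 (by omega)) (by
    rw [adicCompletionIntegers.isUnit_iff_valued_eq_one, he, ← derivative_map, hG, derivative_map, eval_map,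
      eval₂_at_apply, hval]
    exact h₂)
  refine ⟨r, ?_⟩
  rw [aeval_def, ← eval_map, ← hG, eval_map]
  have := congrArg (algebraMap A (v.adicCompletion k)) hr
  rw [map_zero] at this
  show eval₂ (algebraMap A (v.adicCompletion k)) (algebraMap A (v.adicCompletion k) r) G = 0
  rw [eval₂_at_apply]
  exact this

end Groth.Agent.NFApprox
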