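import Groth.Agent.NFApprox.Split

/-! Simultaneous values of linear polynomials which are locally split. -/

set_option autoImplicit false
universe u

open IsDedekindDomain HeightOneSpectrum NumberField WithZero
open scoped TensorProduct Classical

namespace Groth.Agent.NFApprox

variable {k : Type u} [Field k] [NumberField k]

lemma exists_coord_good {K : Type u} [Field K] [NumberField K] [Algebra k K] {κ : Type*} [Fintype κ]
    (e' : Module.Basis κ k K) :
    ∃ B : Finset (HeightOneSpectrum (𝓞 k)), ∀ v ∉ B, ∀ y : K, IntAt v y → ∀ j, v.valuation k (e'.repr y j) ≤ 1 := by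
  set b := integralBasis K
  obtain ⟨B, hB⟩ : ∃ B : Finset (HeightOneSpectrum (𝓞 k)), ∀ v ∉ B, ∀ i j, v.valuation k (e'.repr (b i) j) ≤ 1 :=
    ⟨Finset.univ.biUnion fun i => Finset.univ.biUnion fun j =>
      (HeightOneSpectrum.Support.finite (𝓞 k) (e'.repr (b i) j)).toFinset, fun v hv i j => by
        simp only [Finset.mem_biUnion, Finset.mem_univ, true_and, Set.Finite.mem_toFinset, not_exists] at hv
        exact not_lt.1 (hv i j)⟩
  refine ⟨B, fun v hv y hy j => ?_⟩
  obtain ⟨s, hs, hsi⟩ := hy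
  have key : ∀ y : K, y ∈ Submodule.span ℤ (Set.range b) → v.valuation k (e'.repr y j) ≤ 1 := by
    intro y hspan
    induction hspan using Submodule.span_induction with
    | mem _ hx => obtain ⟨i, rfl⟩ := hx; exact hB v hv i j
    | zero => simp
    | add a c _ _ ha hc => rw [map_add, Finsupp.add_apply]; exact Valuation.map_add_le _ ha hc
    | smul r a _ ha =>
      rw [map_zsmul, Finsupp.smul_apply, zsmul_eq_mul, map_mul]
      refine mul_le_one' ?_ ha
      rw [show (r : k) = algebraMap (𝓞 k) k (r : 𝓞 k) from (map_intCast _ r).symm]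
      exact v.valuation_le_one _
  have h : v.valuation k (e'.repr (algebraMap k K (algebraMap (𝓞 k) k s) * y) j) ≤ 1 :=
    key _ ((mem_span_integralBasis K).2 ⟨⟨_, hsi⟩, rfl⟩)
  rw [← Algebra.smul_def, map_smul, Finsupp.smul_apply, smul_eq_mul, map_mul,
    (valuation_eq_one_iff_notMem v).2 hs, one_mul] at h
  exact h

variable {n : ℕ} {kf Lf : Fin n → Type u} [∀ i, Field (kf i)] [∀ i, NumberField (kf i)]
  [∀ i, Algebra k (kf i)] [∀ i, Field (Lf i)] [∀ i, NumberField (Lf i)] [∀ i, Algebra (kf i) (Lf i)]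
  [∀ i, Algebra k (Lf i)] [∀ i, IsScalarTower k (kf i) (Lf i)]

/-- The locally split value theorem, given an inverse of the linear substitution. -/
theorem exists_t0 (a b : (i : Fin n) → kf i) (hb : ∀ i, b i ≠ 0)
    (Λ M : ((i : Fin n) → kf i) →ₗ[k] k) (l₀ m₀ : k)
    (H1 : ∀ y i, y i = b i * (algebraMap k (kf i) (l₀ + Λ y) - algebraMap k (kf i) (m₀ + M y) * a i))
    (H2 : ∀ t : k, l₀ + Λ (fun i => b i * (algebraMap k (kf i) t - a i)) = t ∧
      m₀ + M (fun i => b i * (algebraMap k (kf i) t - a i)) = 1)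
    (H3 : ∀ s : k, m₀ + M (fun i => b i * (1 - algebraMap k (kf i) s * a i)) = 1 ∨
      m₀ + M (fun i => b i * (1 - algebraMap k (kf i) s * a i)) = s)
    (Sf : Finset (HeightOneSpectrum (𝓞 k))) (Si : Finset (InfinitePlace k))
    (hSb : ∀ i, ∀ W : HeightOneSpectrum (𝓞 (kf i)), W.valuation (kf i) (b i) ≠ 1 → under k W ∈ Sf)
    (hSram : ∀ i, ∀ Q : HeightOneSpectrum (𝓞 (Lf i)), ramIdx (kf i) Q ≠ 1 → under k (under (kf i) Q) ∈ Sf)
    (tf : (v : HeightOneSpectrum (𝓞 k)) → v.adicCompletion k) (ti : (w : InfinitePlace k) → w.Completion)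
    (htf : ∀ i, ∀ v ∈ Sf, ∃ x : (v.adicCompletion k) ⊗[k] Lf i,
      bcNorm k (v.adicCompletion k) (kf i) (Lf i) x =
        (1 : v.adicCompletion k) ⊗ₜ[k] b i * (tf v ⊗ₜ[k] (1 : kf i) - (1 : v.adicCompletion k) ⊗ₜ[k] a i))
    (hti : ∀ i, ∀ w ∈ Si, ∃ x : w.Completion ⊗[k] Lf i,
      bcNorm k w.Completion (kf i) (Lf i) x =
        (1 : w.Completion) ⊗ₜ[k] b i * (ti w ⊗ₜ[k] (1 : kf i) - (1 : w.Completion) ⊗ₜ[k] a i))
    (Uf : (v : HeightOneSpectrum (𝓞 k)) → Set (v.adicCompletion k))
    (hUf : ∀ v ∈ Sf, IsOpen (Uf v) ∧ tf v ∈ Uf v)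
    (Ui : (w : InfinitePlace k) → Set w.Completion)
    (hUi : ∀ w ∈ Si, IsOpen (Ui w) ∧ ti w ∈ Ui w) :
    ∃ t₀ : k, (∀ v ∈ Sf, algebraMap k (v.adicCompletion k) t₀ ∈ Uf v) ∧
      (∀ w ∈ Si, algebraMap k w.Completion t₀ ∈ Ui w) ∧
      ∀ i, ∀ W : HeightOneSpectrum (𝓞 (kf i)),
        W.valuation (kf i) (algebraMap k (kf i) t₀ - a i) < 1 →
          (∃ v ∈ Sf, W.asIdeal.LiesOver v.asIdeal) ∨ Nonempty (Lf i →ₐ[kf i] W.adicCompletion (kf i)) := by
  choose sk e' he' using fun i => FiniteDimensional.exists_is_basis_integral (𝓞 k) k (kf i)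
  choose sL e he using fun i => FiniteDimensional.exists_is_basis_integral (𝓞 k) k (Lf i)
  have he'i : ∀ i j, IsIntegral ℤ (e' i j) := fun i j => isIntegral_trans _ (he' i j)
  have hei : ∀ i j, IsIntegral ℤ (e i j) := fun i j => isIntegral_trans _ (he i j)
  -- affine forms on coordinates
  set l : (i : Fin n) → sk i → k := fun i j => Λ (Pi.single i (e' i j))
  set μc : (i : Fin n) → sk i → k := fun i j => M (Pi.single i (e' i j))
  have hexp : ∀ (Φ : ((i : Fin n) → kf i) →ₗ[k] k) y, Φ y = ∑ i, ∑ j, (e' i).repr (y i) j * Φ (Pi.single i (e' i j)) := by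
    intro Φ y
    conv_lhs => rw [← Finset.univ_sum_single y, map_sum]
    refine Finset.sum_congr rfl fun i _ => ?_
    conv_lhs => rw [← (e' i).sum_repr (y i)]
    have hs : (Pi.single i (∑ j, (e' i).repr (y i) j • e' i j) : (i : Fin n) → kf i) =
        ∑ j, (e' i).repr (y i) j • Pi.single i (e' i j) := by
      rw [show (Pi.single i : kf i → (i : Fin n) → kf i) = LinearMap.single k kf i from rfl, map_sum]
      simp only [map_smul]
    rw [hs, map_sum]
    simp only [map_smul, smul_eq_mul]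
  -- the forms over a coefficient algebra
  let ΛA : (A : Type u) → [CommRing A] → [Algebra k A] → ((i : Fin n) → sk i → A) → A := fun A _ _ c =>
    algebraMap k A l₀ + ∑ i, ∑ j, c i j * algebraMap k A (l i j)
  let MA : (A : Type u) → [CommRing A] → [Algebra k A] → ((i : Fin n) → sk i → A) → A := fun A _ _ c =>
    algebraMap k A m₀ + ∑ i, ∑ j, c i j * algebraMap k A (μc i j)
  have hΛA : ∀ (A : Type u) [CommRing A] [Algebra k A] y,
      ΛA A (fun i j => algebraMap k A ((e' i).repr (y i) j)) = algebraMap k A (l₀ + Λ y) := by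
    intro A _ _ y; simp only [ΛA, l, hexp Λ y, map_add, map_sum, map_mul]
  have hMA : ∀ (A : Type u) [CommRing A] [Algebra k A] y,
      MA A (fun i j => algebraMap k A ((e' i).repr (y i) j)) = algebraMap k A (m₀ + M y) := by
    intro A _ _ y; simp only [MA, μc, hexp M y, map_add, map_sum, map_mul]
  -- the target at a place of `S`
  let tgt : (A : Type u) → [CommRing A] → [Algebra k A] → A → (i : Fin n) → sk i → A := fun A _ _ t i =>
    (Algebra.TensorProduct.basis A (e' i)).equivFun ((1 : A) ⊗ₜ[k] b i * (t ⊗ₜ[k] (1 : kf i) - (1 : A) ⊗ₜ[k] a i))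
  have htgt : ∀ (A : Type u) [CommRing A] [Algebra k A] (t : A) i j, tgt A t i j =
      t * algebraMap k A ((e' i).repr (b i) j) - algebraMap k A ((e' i).repr (b i * a i) j) := by
    intro A _ _ t i j
    simp [tgt, mul_sub, Algebra.smul_def]
  have htgtk : ∀ t : k, (fun i j => t * (e' i).repr (b i) j - (e' i).repr (b i * a i) j) =
      fun i j => (e' i).repr (b i * (algebraMap k (kf i) t - a i)) j := by
    intro t; funext i j
    rw [mul_sub, mul_comm (b i) (algebraMap k (kf i) t), ← Algebra.smul_def, map_sub, map_smul]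
    rfl
  have hsum : ∀ (Φ : ((i : Fin n) → kf i) →ₗ[k] k) (c₀ r : k),
      (∀ t : k, c₀ + Φ (fun i => b i * (algebraMap k (kf i) t - a i)) = (1 - r) * t + r) →
      ∀ (A : Type u) [CommRing A] [Algebra k A] (t : A), algebraMap k A c₀ + ∑ i, ∑ j, tgt A t i j *
        algebraMap k A (Φ (Pi.single i (e' i j))) = algebraMap k A (1 - r) * t + algebraMap k A r := by
    intro Φ c₀ r hΦ A _ _ t
    have hk : ∀ t : k, c₀ + (t * ∑ i, ∑ j, (e' i).repr (b i) j * Φ (Pi.single i (e' i j)) -
        ∑ i, ∑ j, (e' i).repr (b i * a i) j * Φ (Pi.single i (e' i j))) = (1 - r) * t + r := by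
      intro t
      rw [← hΦ t, hexp Φ]
      simp only [← congrFun (congrFun (htgtk t) _) _, sub_mul, mul_assoc, Finset.sum_sub_distrib, Finset.mul_sum]
    have h0 := hk 0
    have h1 := hk 1
    simp only [zero_mul, zero_sub, one_mul, mul_zero, mul_one, zero_add] at h0 h1
    have e1 : ∑ i, ∑ j, (e' i).repr (b i) j * Φ (Pi.single i (e' i j)) = 1 - r := by linear_combination h1 - h0
    simp only [htgt, sub_mul, mul_assoc, Finset.sum_sub_distrib, ← map_mul, ← map_sum, ← Finset.mul_sum, e1]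
    have h0' := congrArg (algebraMap k A) h0
    simp only [map_add, map_neg] at h0'
    linear_combination h0'
  have hΛt : ∀ (A : Type u) [CommRing A] [Algebra k A] (t : A), ΛA A (tgt A t) = t := by
    intro A _ _ t
    have := hsum Λ l₀ 0 (fun t => by rw [(H2 t).1]; ring) A t
    simpa [ΛA, l] using this
  have hMt : ∀ (A : Type u) [CommRing A] [Algebra k A] (t : A), MA A (tgt A t) = 1 := by
    intro A _ _ t
    have := hsum M m₀ 1 (fun t => by rw [(H2 t).2]; ring) A t
    simpa [MA, μc] using this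
  have hcont : ∀ (A : Type u) [CommRing A] [Algebra k A] [TopologicalSpace A] [IsTopologicalRing A],
      Continuous (ΛA A) ∧ Continuous (MA A) := by
    intro A _ _ _ _
    constructor <;> simp only [ΛA, MA] <;> fun_prop
  -- boxes at `S`
  have hbox : ∀ (A : Type u) [Field A] [Algebra k A] [TopologicalSpace A] [IsTopologicalRing A] [T1Space A]
      [ContinuousInv₀ A] (t : A) (U : Set A), IsOpen U → t ∈ U →
      ∃ O : (i : Fin n) → Set (sk i → A), (∀ i, IsOpen (O i) ∧ tgt A t i ∈ O i) ∧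
        ∀ c : (i : Fin n) → sk i → A, (∀ i, c i ∈ O i) → MA A c ≠ 0 ∧ ΛA A c / MA A c ∈ U := by
    intro A _ _ _ _ _ _ t U hU ht
    have hO : IsOpen ({c | MA A c ≠ 0} ∩ (fun c => ΛA A c / MA A c) ⁻¹' U) :=
      ((hcont A).1.continuousOn.div (hcont A).2.continuousOn (fun c hc => hc)).isOpen_inter_preimage
        (isOpen_ne.preimage (hcont A).2) hU
    obtain ⟨O, hO1, hO2⟩ := isOpen_pi_iff'.1 hO (tgt A t) ⟨by simp [hMt], by simp [hΛt, hMt, ht]⟩
    exact ⟨O, hO1, fun c hc => hO2 fun i _ => hc i⟩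
  -- the exceptional places
  choose Bg hBg using fun i => exists_coord_good (e' i)
  set Bc : Finset (HeightOneSpectrum (𝓞 k)) :=
    ((finite_coeff_bad (Polynomial.C m₀)).toFinset) ∪
      Finset.univ.biUnion fun i => Bg i ∪ Finset.univ.biUnion fun j =>
        (HeightOneSpectrum.Support.finite (𝓞 k) (μc i j)).toFinset
  obtain ⟨v₁, hv₁, -⟩ := exists_degree_one k Sf
  set E := (insert v₁ Bc) \ Sf
  obtain ⟨v₀, hv₀, hsplit⟩ := exists_split kf Lf (Sf ∪ E)
  -- a small scalar at the exceptional places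
  obtain ⟨s, hs0, hs1, hsa⟩ : ∃ s : k, s ≠ 0 ∧ (∀ v : HeightOneSpectrum (𝓞 k), v.valuation k s ≤ 1) ∧
      ∀ i, ∀ W : HeightOneSpectrum (𝓞 (kf i)), under k W ∈ E → W.valuation (kf i) (algebraMap k (kf i) s * a i) < 1 := by
    set T : (i : Fin n) → Finset (HeightOneSpectrum (𝓞 (kf i))) := fun i =>
      (finite_places_over (K := kf i) (E : Set (HeightOneSpectrum (𝓞 k))) E.finite_toSet).toFinset
    set N := Finset.univ.sup fun i => (T i).sup fun W => (log (W.valuation (kf i) (a i))).toNat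
    obtain ⟨s, hs, hs'⟩ : ∃ x ∈ ∏ v ∈ E, v.asIdeal ^ (N + 1), x ≠ 0 := by
      refine Submodule.exists_mem_ne_zero_of_ne_bot ?_
      exact Finset.prod_ne_zero_iff.2 fun v _ => pow_ne_zero _ v.ne_bot
    refine ⟨algebraMap (𝓞 k) k s, by simpa using hs', fun v => v.valuation_le_one s, fun i W hW => ?_⟩
    have h1 : (under k W).valuation k (algebraMap (𝓞 k) k s) ≤ exp (-((N + 1 : ℕ) : ℤ)) := by
      rw [HeightOneSpectrum.valuation_of_algebraMap]
      refine ((under k W).intValuation_le_pow_iff_mem s (N + 1)).2 ?_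
      exact Ideal.le_of_dvd (Finset.dvd_prod_of_mem _ hW) hs
    rw [map_mul, valuation_algebraMap_eq]
    have h2 : (under k W).valuation k (algebraMap (𝓞 k) k s) ^ ramIdx k W ≤ exp (-((N + 1 : ℕ) : ℤ)) :=
      (pow_le_of_le_one zero_le ((under k W).valuation_le_one s) (ramIdx_ne_zero W)).trans h1
    rcases eq_or_ne (W.valuation (kf i) (a i)) 0 with h0 | h0
    · rw [h0, mul_zero]; exact zero_lt_one
    refine lt_of_le_of_lt (mul_le_mul' h2 le_rfl) ?_
    rw [← exp_log h0, ← exp_add, ← exp_zero, exp_lt_exp]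
    have h3 : (log (W.valuation (kf i) (a i))).toNat ≤ N :=
      le_trans (Finset.le_sup (f := fun W => (log (W.valuation (kf i) (a i))).toNat) (show W ∈ T i by simpa [T] using hW))
        (Finset.le_sup (f := fun i => (T i).sup fun W => (log (W.valuation (kf i) (a i))).toNat) (Finset.mem_univ i))
    push_cast
    omega
  set z : (i : Fin n) → kf i := fun i => b i * (1 - algebraMap k (kf i) s * a i)
  set cz : (v : HeightOneSpectrum (𝓞 k)) → (i : Fin n) → sk i → v.adicCompletion k :=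
    fun v i j => algebraMap k _ ((e' i).repr (z i) j)
  have hES : ∀ v ∈ E, v ∉ Sf := fun v hv => (Finset.mem_sdiff.1 hv).2
  have hzunit : ∀ i, ∀ W : HeightOneSpectrum (𝓞 (kf i)), under k W ∈ E → W.valuation (kf i) (z i) = 1 := by
    intro i W hW
    have hb1 : W.valuation (kf i) (b i) = 1 := by
      by_contra h; exact hES _ hW (hSb i W h)
    rw [map_mul, hb1, one_mul, (W.valuation (kf i)).map_one_sub_of_lt (hsa i W hW)]
  have hMz : ∀ (A : Type u) [CommRing A] [Algebra k A],
      MA A (fun i j => algebraMap k A ((e' i).repr (z i) j)) = algebraMap k A (m₀ + M z) := fun A _ _ => hMA A z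
  have hMzv : ∀ v : HeightOneSpectrum (𝓞 k), m₀ + M z ≠ 0 ∧ v.valuation k (m₀ + M z) ≤ 1 := by
    intro v
    rcases H3 s with h | h
    · rw [h]; exact ⟨one_ne_zero, (map_one _).le⟩
    · rw [h]; exact ⟨hs0, hs1 v⟩
  have hOf : ∀ v, ∃ O : (i : Fin n) → Set (sk i → v.adicCompletion k),
      (v ∈ Sf → (∀ i, IsOpen (O i) ∧ tgt _ (tf v) i ∈ O i) ∧ ∀ c : (i : Fin n) → sk i → v.adicCompletion k,
        (∀ i, c i ∈ O i) → MA _ c ≠ 0 ∧ ΛA _ c / MA _ c ∈ Uf v) ∧
      (v ∈ E → (∀ i, IsOpen (O i) ∧ cz v i ∈ O i) ∧ ∀ c : (i : Fin n) → sk i → v.adicCompletion k,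
        (∀ i, c i ∈ O i) → MA _ c ≠ 0 ∧ Valued.v (MA _ c) ≤ 1 ∧ ∀ i j, Valued.v (c i j - cz v i j) < 1) := by
    intro v
    by_cases hS : v ∈ Sf
    · obtain ⟨O, h1, h2⟩ := hbox _ (tf v) (Uf v) (hUf v hS).1 (hUf v hS).2
      exact ⟨O, fun _ => ⟨h1, h2⟩, fun h => absurd hS (hES v h)⟩
    by_cases hE : v ∈ E
    · have hball : IsOpen {x : v.adicCompletion k | Valued.v x < 1} := by
        convert Valued.isOpen_ball (R := v.adicCompletion k) 1 using 1
        ext x; simp [Valuation.restrict_lt_one_iff]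
      have hO : IsOpen ({c : (i : Fin n) → sk i → v.adicCompletion k | MA _ c ≠ 0} ∩
          (MA _ ⁻¹' (v.adicCompletionIntegers k : Set (v.adicCompletion k)) ∩
            ⋂ i, ⋂ j, (fun c : (i : Fin n) → sk i → v.adicCompletion k => c i j - cz v i j) ⁻¹' {x | Valued.v x < 1})) := by
        refine ((isOpen_ne).preimage (hcont _).2).inter (((Valued.isOpen_valuationSubring _).preimage (hcont _).2).inter ?_)
        exact isOpen_iInter_of_finite fun i => isOpen_iInter_of_finite fun j => hball.preimage (by fun_prop)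
      obtain ⟨O, hO1, hO2⟩ := isOpen_pi_iff'.1 hO (cz v) ⟨by
          show MA _ (cz v) ≠ 0
          rw [hMz, map_ne_zero_iff _ (algebraMap k (v.adicCompletion k)).injective]
          exact (hMzv v).1, by
          show MA _ (cz v) ∈ v.adicCompletionIntegers k
          rw [hMz, mem_adicCompletionIntegers]
          exact (v.valuedAdicCompletion_eq_valuation' _).trans_le (hMzv v).2, by simp⟩
      refine ⟨O, fun h => absurd h hS, fun _ => ⟨hO1, fun c hc => ?_⟩⟩
      obtain ⟨h1, h2, h3⟩ := hO2 fun i _ => hc i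
      simp only [Set.mem_iInter, Set.mem_preimage, Set.mem_ofPred_eq] at h3
      exact ⟨h1, (mem_adicCompletionIntegers _ _ v).1 h2, h3⟩
    · exact ⟨fun _ => Set.univ, fun h => absurd h hS, fun h => absurd h hE⟩
  choose Of hOfS hOfE using hOf
  have hOi : ∀ w, ∃ O : (i : Fin n) → Set (sk i → InfinitePlace.Completion w),
      (∀ i, IsOpen (O i) ∧ (w ∈ Si → tgt _ (ti w) i ∈ O i)) ∧ (w ∈ Si → ∀ c : (i : Fin n) → sk i → InfinitePlace.Completion w,
        (∀ i, c i ∈ O i) → MA _ c ≠ 0 ∧ ΛA _ c / MA _ c ∈ Ui w) ∧ (w ∉ Si → ∀ i, O i = Set.univ) := by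
    intro w
    by_cases hS : w ∈ Si
    · obtain ⟨O, h1, h2⟩ := hbox _ (ti w) (Ui w) (hUi w hS).1 (hUi w hS).2
      exact ⟨O, fun i => ⟨(h1 i).1, fun _ => (h1 i).2⟩, fun _ => h2, fun h => absurd hS h⟩
    · exact ⟨fun _ => Set.univ, fun i => ⟨isOpen_univ, fun _ => Set.mem_univ _⟩, fun h => absurd h hS, fun _ _ => rfl⟩
  choose Oi hOi₁ hOi₂ hOi₃ using hOi
  have hX : ∀ i : Fin n, ∃ x : Lf i, x ≠ 0 ∧
      (∀ v ∈ Sf ∪ E, (fun j => algebraMap k (v.adicCompletion k) ((e' i).repr (Algebra.norm (kf i) x) j)) ∈ Of v i) ∧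
      (∀ w, (fun j => algebraMap k (InfinitePlace.Completion w) ((e' i).repr (Algebra.norm (kf i) x) j)) ∈ Oi w i) ∧
      ∀ W : HeightOneSpectrum (𝓞 (kf i)), under k W ∉ Sf ∪ E → under k W ≠ v₀ →
        W.valuation (kf i) (Algebra.norm (kf i) x) ≤ 1 ∧
          (W.valuation (kf i) (Algebra.norm (kf i) x) = 1 ∨ Nonempty (Lf i →ₐ[kf i] W.adicCompletion (kf i))) := by
    intro i
    obtain ⟨x, hx0, h1, h2, h3⟩ := master (K := kf i) (e i) (hei i) v₀ (Sf ∪ E) hv₀
      (fun v => normMap (A := v.adicCompletion k) (e i) (e' i) ⁻¹' Of v i)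
      (fun v hv => by
        refine ⟨IsOpen.preimage (continuous_normMap (e i) (e' i)) ?_, ?_⟩
        · rcases Finset.mem_union.1 hv with h | h
          · exact ((hOfS v h).1 i).1
          · exact ((hOfE v h).1 i).1
        rcases Finset.mem_union.1 hv with h | h
        · obtain ⟨X, hX⟩ := htf i v h
          refine ⟨(Algebra.TensorProduct.basis (v.adicCompletion k) (e i)).equivFun X, ?_⟩
          simp only [Set.mem_preimage, normMap, LinearEquiv.symm_apply_apply, hX]
          exact ((hOfS v h).1 i).2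
        · obtain ⟨hopen, hmem⟩ := (hOfE v h).1 i
          obtain ⟨O', hO', hsub⟩ := isOpen_pi_iff'.1 hopen _ hmem
          choose N hN using fun j => exists_bound_of_isOpen (hO' j).1 (hO' j).2
          obtain ⟨N', hN'⟩ := exists_coord_bound (e' i) v (Finset.univ.sup N)
          obtain ⟨x, hx⟩ := exists_norm_congr (L := Lf i) v (fun Q hQ => by
              by_contra hne; exact hES v h (hQ ▸ hSram i Q hne)) (z i)
            (fun W hW => hzunit i W (by rw [hW]; exact h)) N'
          refine ⟨fun j => algebraMap k _ ((e i).repr x j), ?_⟩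
          rw [Set.mem_preimage, normMap_algebraMap]
          refine hsub fun j _ => hN j _ ?_
          have := hN' _ hx j
          rw [map_sub, Finsupp.sub_apply] at this
          simp only [cz, ← map_sub]
          refine le_of_eq_of_le (v.valuedAdicCompletion_eq_valuation' _) (this.trans (exp_le_exp.2 ?_))
          have := Finset.le_sup (f := N) (Finset.mem_univ j)
          omega)
      (fun w => normMap (A := InfinitePlace.Completion w) (e i) (e' i) ⁻¹' Oi w i)
      (fun w => by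
        refine ⟨IsOpen.preimage (continuous_normMap (e i) (e' i)) (hOi₁ w i).1, ?_⟩
        by_cases hw : w ∈ Si
        · obtain ⟨X, hX⟩ := hti i w hw
          refine ⟨(Algebra.TensorProduct.basis w.Completion (e i)).equivFun X, ?_⟩
          simp only [Set.mem_preimage, normMap, LinearEquiv.symm_apply_apply, hX]
          exact (hOi₁ w i).2 hw
        · exact ⟨0, by simp [hOi₃ w hw i]⟩)
    refine ⟨x, hx0, fun v hv => ?_, fun w => ?_, h3⟩
    · have := h1 v hv; rwa [Set.mem_preimage, normMap_algebraMap] at this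
    · have := h2 w; rwa [Set.mem_preimage, normMap_algebraMap] at this
  choose x hx0 hxf hxi hxW using hX
  set y : (i : Fin n) → kf i := fun i => Algebra.norm (kf i) (x i)
  set μ := m₀ + M y
  have hv₁E : v₁ ∈ E := Finset.mem_sdiff.2 ⟨Finset.mem_insert_self _ _, hv₁⟩
  have hμ0 : μ ≠ 0 := by
    have := ((hOfE v₁ hv₁E).2 _ fun i => hxf i v₁ (Finset.mem_union_right _ hv₁E)).1
    intro h
    apply this
    rw [hMA _ y]
    show algebraMap k _ μ = 0
    rw [h, map_zero]
  have hμv : ∀ v, v ∉ Sf → v ≠ v₀ → v.valuation k μ ≤ 1 := by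
    intro v hvS hv0
    by_cases hvE : v ∈ E
    · have := ((hOfE v hvE).2 _ fun i => hxf i v (Finset.mem_union_right _ hvE)).2.1
      rw [hMA _ y] at this
      rw [← v.valuedAdicCompletion_eq_valuation' μ]; exact this
    · have hBc : v ∉ Bc := fun h => hvE (Finset.mem_sdiff.2 ⟨Finset.mem_insert_of_mem h, hvS⟩)
      simp only [Bc, Finset.mem_union, Set.Finite.mem_toFinset, Finset.mem_biUnion, Finset.mem_univ, true_and,
        not_or, not_exists, Set.mem_ofPred_eq, not_lt] at hBc
      refine Valuation.map_add_le _ (by simpa using hBc.1 0) ?_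
      rw [hexp M y]
      refine Valuation.map_sum_le _ fun i _ => Valuation.map_sum_le _ fun j _ => ?_
      rw [map_mul]
      refine mul_le_one' (hBg i v (hBc.2 i).1 _ ?_ j) (not_lt.1 ((hBc.2 i).2 j))
      exact IntAt.of_valuation_le fun W hW => (hxW i W (by rw [hW]; simp [hvS, hvE]) (hW ▸ hv0)).1
  refine ⟨(l₀ + Λ y) / μ, fun v hv => ?_, fun w hw => ?_, fun i W hlt => ?_⟩
  · have := ((hOfS v hv).2 _ fun i => hxf i v (Finset.mem_union_left _ hv)).2
    rw [hMA _ y, hΛA _ y] at this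
    rwa [map_div₀]
  · have := (hOi₂ w hw _ fun i => hxi i w).2
    rw [hMA _ y, hΛA _ y] at this
    rwa [map_div₀]
  set v := under k W
  by_cases hvS : v ∈ Sf
  · exact Or.inl ⟨v, hvS, (under_eq_iff W v).1 rfl⟩
  refine Or.inr ?_
  by_cases hv0 : v = v₀
  · exact hsplit i W hv0
  have hb1 : W.valuation (kf i) (b i) = 1 := by by_contra h; exact hvS (hSb i W h)
  have hμ1 : W.valuation (kf i) (algebraMap k (kf i) μ) ≤ 1 := (valuation_algebraMap_le_one W μ).2 (hμv v hvS hv0)
  have hμW : algebraMap k (kf i) μ ≠ 0 := by simpa using hμ0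
  have hy1 : W.valuation (kf i) (y i) < 1 := by
    have e1 : y i = b i * (algebraMap k (kf i) μ * (algebraMap k (kf i) ((l₀ + Λ y) / μ) - a i)) := by
      rw [mul_sub, ← map_mul, mul_div_cancel₀ _ hμ0]
      exact H1 y i
    rw [e1, map_mul, map_mul, hb1, one_mul]
    exact lt_of_le_of_lt (mul_le_of_le_one_left' hμ1) hlt
  by_cases hvE : v ∈ E
  · exfalso
    have hδ := ((hOfE v hvE).2 _ fun l => hxf l v (Finset.mem_union_right _ hvE)).2.2 i
    have hdiff : W.valuation (kf i) (y i - z i) < 1 := by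
      rw [← (e' i).sum_repr (y i - z i)]
      refine Valuation.map_sum_lt _ one_ne_zero fun j _ => ?_
      rw [Algebra.smul_def, map_mul]
      refine lt_of_le_of_lt (mul_le_of_le_one_right' (W.valuation_le_one (⟨_, he'i i j⟩ : 𝓞 (kf i)))) ?_
      rw [valuation_algebraMap_lt_one, map_sub, Finsupp.sub_apply]
      have := hδ j
      simp only [cz, ← map_sub] at this
      exact (v.valuedAdicCompletion_eq_valuation' _).symm.trans_lt this
    rw [Valuation.map_eq_of_sub_lt _ (by rwa [hzunit i W hvE]), hzunit i W hvE] at hy1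
    exact lt_irrefl _ hy1
  rcases (hxW i W (by simp [v] at hvS hvE ⊢; exact ⟨hvS, hvE⟩) hv0).2 with h | h
  · exact absurd h hy1.ne
  · exact h

end Groth.Agent.NFApprox
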