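import Mathlib

/-! Relative norms after base change, in coordinates, are continuous. -/

set_option autoImplicit false
universe u v

open scoped TensorProduct Classical

namespace Groth.Agent.NFApprox

variable (k : Type u) [Field k] (A : Type v) [CommRing A] [Algebra k A]
  (K L : Type u) [Field K] [Algebra k K] [Field L] [Algebra k L] [Algebra K L] [IsScalarTower k K L]

/-- `A ⊗ K → A ⊗ L`. -/
noncomputable abbrev bcMap : A ⊗[k] K →ₐ[k] A ⊗[k] L :=
  Algebra.TensorProduct.map (AlgHom.id k A) (IsScalarTower.toAlgHom k K L)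

/-- The norm of `A ⊗ L` over `A ⊗ K`. -/
noncomputable def bcNorm (x : A ⊗[k] L) : A ⊗[k] K :=
  letI := (bcMap k A K L).toRingHom.toAlgebra
  Algebra.norm (A ⊗[k] K) x

variable [FiniteDimensional k K] [FiniteDimensional K L]

lemma exists_basis :
    letI := (bcMap k A K L).toRingHom.toAlgebra
    ∃ f : Module.Basis (Module.Free.ChooseBasisIndex K L) (A ⊗[k] K) (A ⊗[k] L),
      ∀ j, f j = 1 ⊗ₜ[k] Module.Free.chooseBasis K L j := by
  letI := (bcMap k A K L).toRingHom.toAlgebra
  have : IsScalarTower A (A ⊗[k] K) (A ⊗[k] L) := IsScalarTower.of_algebraMap_eq fun a => by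
    simp [RingHom.algebraMap_toAlgebra, bcMap]
  set g := Module.Free.chooseBasis K L
  set e := Module.Free.chooseBasis k K
  set E := Algebra.TensorProduct.basis A (e.smulTower g)
  set Φ : (Module.Free.ChooseBasisIndex K L → A ⊗[k] K) →ₗ[A ⊗[k] K] A ⊗[k] L :=
    Fintype.linearCombination (A ⊗[k] K) (fun j => (1 : A) ⊗ₜ[k] g j)
  set D := Algebra.TensorProduct.basis A e
  set P := Pi.basis (fun _ : Module.Free.ChooseBasisIndex K L => D)
  set σ : (Σ _ : Module.Free.ChooseBasisIndex K L, Module.Free.ChooseBasisIndex k K) ≃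
      Module.Free.ChooseBasisIndex k K × Module.Free.ChooseBasisIndex K L :=
    (Equiv.sigmaEquivProd _ _).trans (Equiv.prodComm _ _)
  have hΦ : Φ.restrictScalars A = (P.equiv E σ).toLinearMap := by
    refine P.ext fun ⟨j, i⟩ => ?_
    rw [LinearEquiv.coe_toLinearMap, Module.Basis.equiv_apply, LinearMap.restrictScalars_apply]
    simp only [P, Pi.basis_apply, Φ, Fintype.linearCombination_apply]
    rw [Finset.sum_eq_single j (fun b _ hb => by simp [hb]) (by simp)]
    simp [E, D, σ, RingHom.algebraMap_toAlgebra, bcMap, Algebra.smul_def, Module.Basis.smulTower_apply]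
  have hbij : Function.Bijective Φ := by
    have : ⇑Φ = ⇑(P.equiv E σ) := congrArg DFunLike.coe hΦ
    rw [this]; exact (P.equiv E σ).bijective
  refine ⟨Module.Basis.ofEquivFun (LinearEquiv.ofBijective Φ hbij).symm, fun j => ?_⟩
  simp only [Module.Basis.coe_ofEquivFun, LinearEquiv.symm_symm, LinearEquiv.ofBijective_apply, Φ,
    Fintype.linearCombination_apply]
  rw [Finset.sum_eq_single j (fun b _ hb => by simp [hb]) (by simp)]
  simp

lemma bcNorm_tmul (x : L) : bcNorm k A K L (1 ⊗ₜ x) = 1 ⊗ₜ Algebra.norm K x := by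
  letI := (bcMap k A K L).toRingHom.toAlgebra
  obtain ⟨f, hf⟩ := exists_basis k A K L
  show Algebra.norm (A ⊗[k] K) _ = _
  set φ : K →+* A ⊗[k] K := (Algebra.TensorProduct.includeRight : K →ₐ[k] A ⊗[k] K).toRingHom
  have hM : Algebra.leftMulMatrix f ((1 : A) ⊗ₜ[k] x) =
      (Algebra.leftMulMatrix (Module.Free.chooseBasis K L) x).map φ := by
    ext i j
    rw [Algebra.leftMulMatrix_eq_repr_mul, hf, Matrix.map_apply, Algebra.leftMulMatrix_eq_repr_mul]
    set g := Module.Free.chooseBasis K L
    have : ((1 : A) ⊗ₜ[k] x) * ((1 : A) ⊗ₜ[k] g j) = ∑ l, φ (g.repr (x * g j) l) • f l := by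
      rw [Algebra.TensorProduct.tmul_mul_tmul, one_mul]
      conv_lhs => rw [← g.sum_repr (x * g j), TensorProduct.tmul_sum]
      refine Finset.sum_congr rfl fun l _ => ?_
      rw [hf]
      simp [φ, Algebra.smul_def, RingHom.algebraMap_toAlgebra, bcMap]
    rw [this, f.repr_sum_self]
  rw [Algebra.norm_eq_matrix_det f, hM, Algebra.norm_eq_matrix_det (Module.Free.chooseBasis K L),
    ← RingHom.mapMatrix_apply, ← RingHom.map_det]
  rfl

variable {k A K L}
variable {ι : Type*} [Fintype ι] {κ : Type*} [Fintype κ]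

/-- Coordinates of the relative norm of the element with given coordinates. -/
noncomputable def normMap (e : Module.Basis ι k L) (e' : Module.Basis κ k K) (c : ι → A) : κ → A :=
  (Algebra.TensorProduct.basis A e').equivFun
    (bcNorm k A K L ((Algebra.TensorProduct.basis A e).equivFun.symm c))

lemma normMap_algebraMap (e : Module.Basis ι k L) (e' : Module.Basis κ k K) (x : L) :
    normMap (A := A) e e' (fun i => algebraMap k A (e.repr x i)) =
      fun j => algebraMap k A (e'.repr (Algebra.norm K x) j) := by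
  have h1 : (Algebra.TensorProduct.basis A e).equivFun.symm (fun i => algebraMap k A (e.repr x i)) =
      (1 : A) ⊗ₜ[k] x := by
    rw [LinearEquiv.symm_apply_eq]
    ext i
    simp [Algebra.algebraMap_eq_smul_one]
  rw [normMap, h1, bcNorm_tmul]
  ext j
  simp [Algebra.algebraMap_eq_smul_one]

lemma continuous_normMap [TopologicalSpace A] [IsTopologicalRing A] (e : Module.Basis ι k L) (e' : Module.Basis κ k K) :
    Continuous (normMap (A := A) e e') := by
  letI := (bcMap k A K L).toRingHom.toAlgebra
  have : IsScalarTower A (A ⊗[k] K) (A ⊗[k] L) := IsScalarTower.of_algebraMap_eq fun a => by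
    simp [RingHom.algebraMap_toAlgebra, bcMap]
  letI : TopologicalSpace (A ⊗[k] K) := moduleTopology A (A ⊗[k] K)
  have : IsModuleTopology A (A ⊗[k] K) := ⟨rfl⟩
  have : IsTopologicalRing (A ⊗[k] K) := IsModuleTopology.isTopologicalRing A _
  obtain ⟨f, -⟩ := exists_basis k A K L
  set Φ : (ι → A) →ₗ[A] Matrix (Module.Free.ChooseBasisIndex K L) (Module.Free.ChooseBasisIndex K L) (A ⊗[k] K) :=
    ((Algebra.leftMulMatrix f).restrictScalars A).toLinearMap ∘ₗ
      (Algebra.TensorProduct.basis A e).equivFun.symm.toLinearMap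
  have hΦ : Continuous Φ := IsModuleTopology.continuous_of_linearMap Φ
  have hdet : Continuous fun M : Matrix (Module.Free.ChooseBasisIndex K L) (Module.Free.ChooseBasisIndex K L) (A ⊗[k] K) => M.det :=
    continuous_id.matrix_det
  have hrep : Continuous (Algebra.TensorProduct.basis A e').equivFun :=
    IsModuleTopology.continuous_of_linearMap (Algebra.TensorProduct.basis A e').equivFun.toLinearMap
  have : normMap (A := A) e e' = fun c => (Algebra.TensorProduct.basis A e').equivFun (Φ c).det := by
    funext c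
    show (Algebra.TensorProduct.basis A e').equivFun (Algebra.norm (A ⊗[k] K) _) = _
    rw [Algebra.norm_eq_matrix_det f]
    rfl
  rw [this]
  exact hrep.comp (hdet.comp hΦ)

end Groth.Agent.NFApprox
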