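import Groth.Agent.NFApprox.Degree
import Groth.Agent.NFApprox.Congr
import Groth.Agent.NFApprox.Norm

/-! Elements of prescribed local behaviour whose norm has only degree one places as zeros. -/

set_option autoImplicit false
universe u

open IsDedekindDomain HeightOneSpectrum NumberField WithZero Polynomial
open scoped Classical

namespace Groth.Agent.NFApprox

variable {k : Type u} [Field k] [NumberField k]

lemma infinite_of_isOpen (w : InfinitePlace k) {O : Set w.Completion} (hO : IsOpen O) (hne : O.Nonempty) :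
    O.Infinite := by
  obtain ⟨p, hp⟩ := hne
  obtain ⟨r, hr, hsub⟩ := Metric.isOpen_iff.1 hO p hp
  obtain ⟨N, hN⟩ := exists_nat_gt (1 / r)
  have hNpos : (0 : ℝ) < N := lt_trans (by positivity) hN
  have hnorm : ∀ n : ℕ, ‖((n : w.Completion))⁻¹‖ = ((n : ℝ))⁻¹ := fun n => by
    rw [← (InfinitePlace.Completion.isometry_extensionEmbedding w).norm_map_of_map_zero (map_zero _),
      map_inv₀, map_natCast, norm_inv, Complex.norm_natCast]
  refine Set.Infinite.mono (s := Set.range fun n : ℕ => p + ((n + N + 1 : ℕ) : w.Completion)⁻¹) ?_ (Set.infinite_range_of_injective ?_)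
  · rintro _ ⟨n, rfl⟩
    apply hsub
    rw [Metric.mem_ball, dist_eq_norm, add_sub_cancel_left, hnorm, inv_lt_comm₀ (by positivity) hr]
    rw [one_div] at hN
    refine hN.trans_le ?_
    push_cast
    linarith [show (0 : ℝ) ≤ n from Nat.cast_nonneg n]
  · intro a b h
    have h1 := congrArg norm (inv_injective (add_left_cancel h))
    rw [← (InfinitePlace.Completion.isometry_extensionEmbedding w).norm_map_of_map_zero (map_zero _),
      ← (InfinitePlace.Completion.isometry_extensionEmbedding w).norm_map_of_map_zero (map_zero _),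
      map_natCast, map_natCast, Complex.norm_natCast, Complex.norm_natCast, Nat.cast_inj] at h1
    omega

/-- There are infinitely many strong approximants. -/
theorem exists_near_not_mem (v₀ : HeightOneSpectrum (𝓞 k)) (F : Finset (HeightOneSpectrum (𝓞 k))) (hv₀ : v₀ ∉ F)
    (U : (v : HeightOneSpectrum (𝓞 k)) → Set (v.adicCompletion k))
    (hU : ∀ v ∈ F, IsOpen (U v) ∧ (U v).Nonempty)
    (V : (w : InfinitePlace k) → Set w.Completion) (hV : ∀ w, IsOpen (V w) ∧ (V w).Nonempty) (T : Finset k) :
    ∃ c : k, c ∉ T ∧ (∀ v, v ∉ F → v ≠ v₀ → v.valuation k c ≤ 1) ∧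
      (∀ v ∈ F, algebraMap k (v.adicCompletion k) c ∈ U v) ∧ ∀ w, algebraMap k w.Completion c ∈ V w := by
  obtain ⟨c, h1, h2, h3⟩ := exists_near v₀ F hv₀ U hU (fun w => V w \ (algebraMap k w.Completion '' T))
    (fun w => ⟨(hV w).1.sdiff (T.finite_toSet.image _).isClosed,
      ((infinite_of_isOpen w (hV w).1 (hV w).2).sdiff (T.finite_toSet.image _)).nonempty⟩)
  obtain ⟨w⟩ : Nonempty (InfinitePlace k) := inferInstance
  exact ⟨c, fun hc => (h3 w).2 ⟨c, hc, rfl⟩, h1, h2, fun w => (h3 w).1⟩

/-- The norm of an element of positive valuation has positive valuation. -/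
lemma norm_valuation_lt_one {K : Type u} [Field K] [NumberField K] [Algebra k K] (W : HeightOneSpectrum (𝓞 K))
    (u : K) (hu : IntAt (under k W) u) (hW : W.valuation K u < 1) :
    (under k W).valuation k (Algebra.norm k u) < 1 := by
  set v := under k W
  have hi : IsIntegral k u := Algebra.IsIntegral.isIntegral u
  have hfin : FiniteDimensional k K := inferInstance
  have h0 : v.valuation k ((minpoly k u).coeff 0) < 1 := by
    rw [← valuation_algebraMap_lt_one (K := K) W]
    have h := minpoly.aeval k u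
    rw [aeval_eq_sum_range, Finset.sum_range_succ', pow_zero, ← Algebra.algebraMap_eq_smul_one] at h
    rw [eq_neg_of_add_eq_zero_right h, Valuation.map_neg]
    refine Valuation.map_sum_lt _ one_ne_zero fun i _ => ?_
    rw [Algebra.smul_def, map_mul, map_pow]
    refine lt_of_le_of_lt (mul_le_mul' ((valuation_algebraMap_le_one W _).2 (valuation_minpoly_coeff hu _)) le_rfl) ?_
    rw [one_mul]
    exact pow_lt_one₀ zero_le hW (Nat.succ_ne_zero i)
  rw [Algebra.norm_eq_norm_adjoin k u, map_pow]
  refine pow_lt_one₀ zero_le ?_ (Module.finrank_pos).ne'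
  rw [← IntermediateField.adjoin.powerBasis_gen hi,
    Algebra.PowerBasis.norm_gen_eq_coeff_zero_minpoly, map_mul, map_pow, Valuation.map_neg, map_one, one_pow, one_mul,
    IntermediateField.adjoin.powerBasis_gen hi, IntermediateField.minpoly_gen]
  exact h0

lemma exists_boxes {ι : Type*} [Finite ι] {A : Type*} [TopologicalSpace A] [CommRing A] [IsTopologicalRing A]
    {U : Set (ι → A)} (hU : IsOpen U) {p : ι → A} (hp : p ∈ U) (θ one : ι → A) :
    ∃ (Oa : ι → Set A) (Om Os : Set A), (∀ i, IsOpen (Oa i) ∧ p i ∈ Oa i) ∧ (IsOpen Om ∧ (0 : A) ∈ Om) ∧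
      (IsOpen Os ∧ (0 : A) ∈ Os) ∧ ∀ (a : ι → A) (m s : A), (∀ i, a i ∈ Oa i) → m ∈ Om → s ∈ Os →
        (fun i => a i + m * θ i - s * one i) ∈ U := by
  set Φ : (ι → A) × (A × A) → (ι → A) := fun x i => x.1 i + x.2.1 * θ i - x.2.2 * one i
  have hΦ : Continuous Φ := by fun_prop
  have hmem : (p, ((0 : A), (0 : A))) ∈ Φ ⁻¹' U := by simpa [Φ] using hp
  obtain ⟨O₁, O₂, h1, h2, hp1, hp2, hsub⟩ := isOpen_prod_iff.1 (hU.preimage hΦ) p (0, 0) hmem
  obtain ⟨Om, Os, hm, hs, hm0, hs0, hsub2⟩ := isOpen_prod_iff.1 h2 0 0 hp2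
  obtain ⟨Oa, hOa, hpi⟩ := isOpen_pi_iff'.1 h1 p hp1
  exact ⟨Oa, Om, Os, hOa, ⟨hm, hm0⟩, ⟨hs, hs0⟩, fun a m s ha hm hs =>
    hsub (Set.mk_mem_prod (hpi fun i _ => ha i) (hsub2 (Set.mk_mem_prod hm hs)))⟩

/-- Existence of elements with prescribed local behaviour and norm supported at degree one places. -/
theorem master {K L : Type u} [Field K] [NumberField K] [Field L] [NumberField L]
    [Algebra k K] [Algebra k L] [Algebra K L] [IsScalarTower k K L]
    {ι : Type*} [Fintype ι] (e : Module.Basis ι k L) (he : ∀ i, IsIntegral ℤ (e i))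
    (v₀ : HeightOneSpectrum (𝓞 k)) (F : Finset (HeightOneSpectrum (𝓞 k))) (hv₀ : v₀ ∉ F)
    (U : (v : HeightOneSpectrum (𝓞 k)) → Set (ι → v.adicCompletion k))
    (hU : ∀ v ∈ F, IsOpen (U v) ∧ (U v).Nonempty)
    (V : (w : InfinitePlace k) → Set (ι → w.Completion)) (hV : ∀ w, IsOpen (V w) ∧ (V w).Nonempty) :
    ∃ x : L, x ≠ 0 ∧ (∀ v ∈ F, (fun i => algebraMap k (v.adicCompletion k) (e.repr x i)) ∈ U v) ∧
      (∀ w, (fun i => algebraMap k w.Completion (e.repr x i)) ∈ V w) ∧
      ∀ W : HeightOneSpectrum (𝓞 K), under k W ∉ F → under k W ≠ v₀ →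
        W.valuation K (Algebra.norm K x) ≤ 1 ∧
          (W.valuation K (Algebra.norm K x) = 1 ∨ Nonempty (L →ₐ[K] W.adicCompletion K)) := by
  set d := Module.finrank k L
  set e₁ := Module.Basis.singleton Unit k
  have hd! : (d.factorial : k) ≠ 0 := by exact_mod_cast d.factorial_ne_zero
  set Sm := ((finite_valuation_ne_one hd!).toFinset.erase v₀) \ F
  set F₁ := F ∪ Sm
  have hv₁ : v₀ ∉ F₁ := by simp [F₁, Sm, hv₀]
  -- the conditions at small places
  set U₁ : (v : HeightOneSpectrum (𝓞 k)) → Set (ι → v.adicCompletion k) := fun v =>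
    if v ∈ F then U v else
      {c | ∀ i, c i - algebraMap k _ (e.repr 1 i) ∈ v.adicCompletionIntegers k} ∩
      (fun c => normMap (K := k) (L := L) e e₁ c ()) ⁻¹' {a | Valued.v a = 1}
  have hU₁ : ∀ v ∈ F₁, IsOpen (U₁ v) ∧ (U₁ v).Nonempty := fun v _ => by
    simp only [U₁]
    split_ifs with h
    · exact hU v h
    refine ⟨IsOpen.inter ?_ ?_, ⟨fun i => algebraMap k _ (e.repr 1 i), fun i => by simp, ?_⟩⟩
    · rw [Set.setOf_forall]
      exact isOpen_iInter_of_finite fun i =>
        (Valued.isOpen_valuationSubring (v.adicCompletion k)).preimage ((continuous_apply i).sub continuous_const)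
    · refine IsOpen.preimage ((continuous_apply ()).comp (continuous_normMap e e₁)) ?_
      convert (Valued.isClopen_sphere (R := v.adicCompletion k) (r := 1) one_ne_zero).2 using 1
      ext a
      simp [Valuation.restrict_eq_one_iff]
    · show Valued.v (normMap (K := k) (L := L) e e₁ _ ()) = 1
      rw [normMap_algebraMap]
      simp [e₁]
  obtain ⟨θ₀, hθ₀⟩ := Field.exists_primitive_element k L
  obtain ⟨z, hz0, hzi⟩ : ∃ z : 𝓞 k, z ≠ 0 ∧ IsIntegral (𝓞 k) (z • θ₀) := by
    obtain ⟨y, hy, hyi⟩ := exists_integral_multiples (𝓞 k) k {θ₀}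
    exact ⟨y, hy, hyi θ₀ (by simp)⟩
  set θ := z • θ₀ with hθdef
  have hθi : IsIntegral ℤ θ := isIntegral_trans _ hzi
  have hθ : IntermediateField.adjoin k {θ} = ⊤ := by
    refine eq_top_iff.2 (hθ₀ ▸ IntermediateField.adjoin_le_iff.2 ?_)
    intro t ht
    rw [Set.mem_singleton_iff.1 ht]
    have hz0' : algebraMap k L (algebraMap (𝓞 k) k z) ≠ 0 := by simpa using hz0
    have e0 : θ = algebraMap k L (algebraMap (𝓞 k) k z) * θ₀ := by
      rw [hθdef, Algebra.smul_def, IsScalarTower.algebraMap_apply (𝓞 k) k L]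
    rw [e0]
    have h1 := IntermediateField.mem_adjoin_simple_self k (algebraMap k L (algebraMap (𝓞 k) k z) * θ₀)
    have h2 := mul_mem h1 (inv_mem ((IntermediateField.adjoin k {algebraMap k L (algebraMap (𝓞 k) k z) * θ₀}).algebraMap_mem
      (algebraMap (𝓞 k) k z)))
    rwa [mul_right_comm, mul_inv_cancel₀ hz0', one_mul] at h2
  clear_value θ
  -- boxes
  choose p hp using fun v (h : v ∈ F₁) => (hU₁ v h).2
  choose q hq using fun w => (hV w).2
  have hbox : ∀ v, ∃ (Oa : ι → Set (v.adicCompletion k)) (Om Os : Set (v.adicCompletion k)),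
      (∀ i, IsOpen (Oa i) ∧ (Oa i).Nonempty) ∧ (IsOpen Om ∧ Om.Nonempty) ∧ (IsOpen Os ∧ Os.Nonempty) ∧
      (v ∈ F₁ → ∀ (a : ι → v.adicCompletion k) (m s : v.adicCompletion k), (∀ i, a i ∈ Oa i) → m ∈ Om → s ∈ Os →
        (fun i => a i + m * algebraMap k _ (e.repr θ i) - s * algebraMap k _ (e.repr 1 i)) ∈ U₁ v) := fun v => by
    by_cases h : v ∈ F₁
    · obtain ⟨Oa, Om, Os, h1, h2, h3, h4⟩ := exists_boxes (hU₁ v h).1 (hp v h)
        (fun i => algebraMap k _ (e.repr θ i)) (fun i => algebraMap k _ (e.repr 1 i))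
      exact ⟨Oa, Om, Os, fun i => ⟨(h1 i).1, _, (h1 i).2⟩, ⟨h2.1, _, h2.2⟩, ⟨h3.1, _, h3.2⟩, fun _ => h4⟩
    · exact ⟨fun _ => Set.univ, Set.univ, Set.univ, fun _ => ⟨isOpen_univ, Set.univ_nonempty⟩,
        ⟨isOpen_univ, Set.univ_nonempty⟩, ⟨isOpen_univ, Set.univ_nonempty⟩, fun h' => absurd h' h⟩
  choose Oa Om Os hOa hOm hOs hO using hbox
  choose Va Vm Vs hVa hVm hVs hVV using fun w => exists_boxes (hV w).1 (hq w)
    (fun i => algebraMap k w.Completion (e.repr θ i)) (fun i => algebraMap k w.Completion (e.repr 1 i))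
  choose a ha₁ ha₂ ha₃ using fun i => exists_near v₀ F₁ hv₁ (fun v => Oa v i) (fun v _ => hOa v i)
    (fun w => Va w i) (fun w => ⟨(hVa w i).1, _, (hVa w i).2⟩)
  -- a primitive element
  have hx₀ : ∃ m : k, IntermediateField.adjoin k {(∑ i, a i • e i) + m • θ} = ⊤ ∧
      (∀ v, v ∉ F₁ → v ≠ v₀ → v.valuation k m ≤ 1) ∧
      (∀ v ∈ F₁, algebraMap k (v.adicCompletion k) m ∈ Om v) ∧ ∀ w, algebraMap k w.Completion m ∈ Vm w := by
    by_contra hcon
    push Not at hcon
    set G := {m : k | (∀ v, v ∉ F₁ → v ≠ v₀ → v.valuation k m ≤ 1) ∧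
      (∀ v ∈ F₁, algebraMap k (v.adicCompletion k) m ∈ Om v) ∧ ∀ w, algebraMap k w.Completion m ∈ Vm w}
    have hinf : G.Infinite := fun hfin => by
      obtain ⟨c, hc, h1, h2, h3⟩ := exists_near_not_mem v₀ F₁ hv₁ Om (fun v _ => hOm v) Vm
        (fun w => ⟨(hVm w).1, _, (hVm w).2⟩) hfin.toFinset
      exact hc (hfin.mem_toFinset.2 ⟨h1, h2, h3⟩)
    have : Finite (IntermediateField k L) := Field.finite_intermediateField_of_exists_primitive_element k L ⟨θ, hθ⟩
    obtain ⟨m, hm, m', hm', hne, heq⟩ := hinf.exists_ne_map_eq_of_mapsTo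
      (f := fun m : k => IntermediateField.adjoin k {(∑ i, a i • e i) + m • θ}) (Set.mapsTo_univ _ _) Set.finite_univ
    have h1 := IntermediateField.mem_adjoin_simple_self k ((∑ i, a i • e i) + m • θ)
    have h2 := IntermediateField.mem_adjoin_simple_self k ((∑ i, a i • e i) + m' • θ)
    rw [← heq] at h2
    have h3 := sub_mem h1 h2
    rw [add_sub_add_left_eq_sub, ← sub_smul] at h3
    have h4 := (IntermediateField.adjoin k {(∑ i, a i • e i) + m • θ}).smul_mem h3 (x := (m - m')⁻¹)
    rw [smul_smul, inv_mul_cancel₀ (sub_ne_zero.2 hne), one_smul] at h4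
    have htop : IntermediateField.adjoin k {(∑ i, a i • e i) + m • θ} = ⊤ :=
      eq_top_iff.2 (hθ ▸ IntermediateField.adjoin_le_iff.2 (Set.singleton_subset_iff.2 h4))
    obtain ⟨w, hw⟩ := hcon m htop hm.1 hm.2.1
    exact hw (hm.2.2 w)
  obtain ⟨m, hprim, hm₁, hm₂, hm₃⟩ := hx₀
  set x := (∑ i, a i • e i) + m • θ with hxdef
  have hxint : ∀ v, v ∉ F₁ → v ≠ v₀ → IntAt v x := fun v h1 h2 =>
    (valuation_le_of_sum v e he a (fun i => ha₁ i v h1 h2)).add (by
      rw [Algebra.smul_def]; exact (IntAt.algebraMap_of_valuation_le (hm₁ v h1 h2)).mul (IntAt.of_isIntegral hθi))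
  -- bad places
  have hprimK : IntermediateField.adjoin K {x} = ⊤ := by
    rw [eq_top_iff]
    intro t _
    have : IntermediateField.adjoin k {x} ≤ (IntermediateField.adjoin K {x}).restrictScalars k :=
      IntermediateField.adjoin_le_iff.2 (Set.singleton_subset_iff.2 (IntermediateField.mem_adjoin_simple_self K x))
    exact this (hprim ▸ IntermediateField.mem_top)
  obtain ⟨B, hB⟩ := exists_good_set (k := K) x hprimK
  set Bad := ((B.image (under k)).erase v₀) \ F₁
  have hj : ∀ v ∈ Bad, ∃ j : ℕ, v.valuation k ((minpoly k x).eval (j : k)) = 1 := fun v hv => by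
    rw [Finset.mem_sdiff, Finset.mem_erase] at hv
    have hsm : v.valuation k (d.factorial : k) = 1 := by
      by_contra hne
      exact hv.2 (Finset.mem_union.2 (if hF : v ∈ F then Or.inl hF else
        Or.inr (Finset.mem_sdiff.2 ⟨Finset.mem_erase.2 ⟨hv.1.1, (Set.Finite.mem_toFinset _).2 hne⟩, hF⟩)))
    obtain ⟨j, -, hj⟩ := exists_eval_unit v (minpoly.monic (Algebra.IsIntegral.isIntegral (R := k) x))
      (valuation_minpoly_coeff (hxint v hv.2 hv.1.1)) (minpoly.natDegree_le x) hsm
    exact ⟨j, hj⟩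
  choose! j hj using hj
  obtain ⟨c, hc₁, hc₂, hc₃⟩ := exists_near v₀ (F₁ ∪ Bad) (by simp [hv₁, Bad])
    (fun v => if v ∈ Bad then {b | Valued.v (b - algebraMap k _ (j v : k)) < 1} else Os v)
    (fun v _ => by
      split_ifs with h
      · refine ⟨?_, ⟨algebraMap k _ (j v : k), by simp⟩⟩
        have := (Valued.isOpen_ball (R := v.adicCompletion k) 1).preimage
          (show Continuous fun b => b - algebraMap k (v.adicCompletion k) (j v : k) by fun_prop)
        convert this using 1
        ext b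
        simp [Valuation.restrict_lt_one_iff]
      · exact hOs v)
    Vs (fun w => ⟨(hVs w).1, _, (hVs w).2⟩)
  have hrepr : ∀ (A : Type u) [CommRing A] [Algebra k A] (i : ι),
      algebraMap k A (e.repr (x - algebraMap k L c) i) = algebraMap k A (a i) +
        algebraMap k A m * algebraMap k A (e.repr θ i) - algebraMap k A c * algebraMap k A (e.repr 1 i) := by
    intro A _ _ i
    have hs : e.repr (∑ l, a l • e l) i = a i := by rw [e.repr_sum_self]
    rw [hxdef, Algebra.algebraMap_eq_smul_one c, map_sub, map_add, map_smul, map_smul]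
    simp only [Finsupp.sub_apply, Finsupp.add_apply, Finsupp.smul_apply, smul_eq_mul, hs, map_sub, map_add, map_mul]
  have hU₁mem : ∀ v ∈ F₁, (fun i => algebraMap k (v.adicCompletion k) (e.repr (x - algebraMap k L c) i)) ∈ U₁ v := by
    intro v hv
    simp only [hrepr]
    refine hO v hv _ _ _ (fun i => ha₂ i v hv) (hm₂ v hv) ?_
    have := hc₂ v (Finset.mem_union_left _ hv)
    rwa [if_neg (fun h => (Finset.mem_sdiff.1 h).2 hv)] at this
  have hVmem : ∀ w, (fun i => algebraMap k (InfinitePlace.Completion w) (e.repr (x - algebraMap k L c) i)) ∈ V w := fun w => by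
    simp only [hrepr]
    exact hVV w _ _ _ (fun i => ha₃ i w) (hm₃ w) (hc₃ w)
  by_cases hy0 : x - algebraMap k L c = 0
  · -- then `L = k`, and everything is immediate
    have hxk : IntermediateField.adjoin k {x} = ⊥ := by
      rw [IntermediateField.adjoin_simple_eq_bot_iff, sub_eq_zero.1 hy0]; exact ⟨c, rfl⟩
    have htop : (⊥ : IntermediateField k L) = ⊤ := hxk.symm.trans hprim
    have hsurj : Function.Surjective (algebraMap k L) := fun t => by
      have : t ∈ (⊥ : IntermediateField k L) := htop ▸ IntermediateField.mem_top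
      exact IntermediateField.mem_bot.1 this
    have hemb : ∀ W : HeightOneSpectrum (𝓞 K), Nonempty (L →ₐ[K] W.adicCompletion K) := fun W => by
      have hKL : Function.Surjective (algebraMap K L) := fun t => by
        obtain ⟨r, rfl⟩ := hsurj t
        exact ⟨algebraMap k K r, (IsScalarTower.algebraMap_apply k K L r).symm⟩
      exact ⟨(Algebra.ofId K (W.adicCompletion K)).comp
        (AlgEquiv.ofBijective (Algebra.ofId K L) ⟨(algebraMap K L).injective, hKL⟩).symm.toAlgHom⟩
    obtain ⟨y, hy, h1, h2, h3⟩ := exists_near_not_mem v₀ F hv₀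
      (fun v => (fun b : v.adicCompletion k => fun i => b * algebraMap k _ (e.repr 1 i)) ⁻¹' U v)
      (fun v hv => ⟨(hU v hv).1.preimage (continuous_pi fun i => continuous_id.mul continuous_const), by
        have hmem := hU₁mem v (Finset.mem_union_left _ hv)
        simp only [U₁, if_pos hv, hy0, map_zero, Finsupp.coe_zero, Pi.zero_apply] at hmem
        exact ⟨0, by simpa [Pi.zero_def] using hmem⟩⟩)
      (fun w => (fun b : InfinitePlace.Completion w => fun i => b * algebraMap k _ (e.repr 1 i)) ⁻¹' V w)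
      (fun w => ⟨(hV w).1.preimage (continuous_pi fun i => continuous_id.mul continuous_const), by
        have hmem := hVmem w
        simp only [hy0, map_zero, Finsupp.coe_zero, Pi.zero_apply] at hmem
        exact ⟨0, by simpa [Pi.zero_def] using hmem⟩⟩) {0}
    have hr : ∀ (A : Type u) [CommRing A] [Algebra k A] (i : ι), algebraMap k A (e.repr (algebraMap k L y) i) =
        algebraMap k A y * algebraMap k A (e.repr 1 i) := by
      intro A _ _ i
      rw [Algebra.algebraMap_eq_smul_one y, map_smul, Finsupp.smul_apply, smul_eq_mul, map_mul]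
    refine ⟨algebraMap k L y, by simpa using hy, fun v hv => ?_, fun w => ?_, fun W hW1 hW2 => ⟨?_, Or.inr (hemb W)⟩⟩
    · simp only [hr]; exact h2 v hv
    · simp only [hr]; exact h3 w
    · exact ((IntAt.algebraMap_of_valuation_le (K := L) (h1 _ hW1 hW2)).norm (K := K)).valuation_le W rfl
  refine ⟨x - algebraMap k L c, hy0, fun v hv => ?_, hVmem, fun W hW1 hW2 => ?_⟩
  · have := hU₁mem v (Finset.mem_union_left _ hv)
    simpa only [U₁, if_pos hv] using this
  set v := under k W with hv
  set y := x - algebraMap k L c with hy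
  have hyint : IntAt v y := by
    by_cases hv1 : v ∈ F₁
    · have h := (hU₁mem v hv1)
      simp only [U₁, if_neg hW1] at h
      have hsum : IntAt v (∑ i, (e.repr y i - e.repr 1 i) • e i) := valuation_le_of_sum v e he _ fun i => by
        have := h.1 i
        rw [← map_sub, mem_adicCompletionIntegers] at this
        rw [← v.valuedAdicCompletion_eq_valuation' (e.repr y i - e.repr 1 i)]
        exact this
      have := hsum.add (IntAt.of_isIntegral (v := v) (isIntegral_one (R := ℤ) (B := L)))
      simpa [sub_smul, e.sum_repr] using this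
    · refine (hxint v hv1 hW2).sub (IntAt.algebraMap_of_valuation_le ?_)
      by_cases hvB : v ∈ Bad
      · have := hc₂ v (Finset.mem_union_right _ hvB)
        rw [if_pos hvB, Set.mem_ofPred_eq, ← map_sub] at this
        have h1 : v.valuation k (c - (j v : k)) ≤ 1 := by
          rw [← v.valuedAdicCompletion_eq_valuation' (c - (j v : k))]; exact this.le
        have h2 : v.valuation k ((j v : k)) ≤ 1 := by
          rw [← map_natCast (algebraMap (𝓞 k) k)]; exact v.valuation_le_one _
        simpa using Valuation.map_add_le _ h1 h2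
      · exact hc₁ v (by simp [hv1, hvB]) hW2
  have hNint : IntAt v (Algebra.norm K y) := hyint.norm
  refine ⟨hNint.valuation_le W rfl, ?_⟩
  rcases lt_or_eq_of_le (hNint.valuation_le W rfl) with hlt | heq
  swap
  · exact Or.inl heq
  right
  have hNk : v.valuation k (Algebra.norm k y) < 1 := by
    rw [← Algebra.norm_norm (R := k) (S := K) (a := y)]
    exact norm_valuation_lt_one W _ hNint hlt
  by_cases hv1 : v ∈ F₁
  · exfalso
    have h := (hU₁mem v hv1)
    simp only [U₁, if_neg hW1] at h
    have h2 : Valued.v (normMap (K := k) (L := L) e e₁ (fun i => algebraMap k (v.adicCompletion k) (e.repr y i)) ()) = 1 := h.2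
    rw [normMap_algebraMap] at h2
    simp only [e₁, Module.Basis.singleton_repr] at h2
    rw [← v.valuedAdicCompletion_eq_valuation' (Algebra.norm k y)] at hNk
    exact hNk.ne h2
  have hci : v.valuation k c ≤ 1 := by
    by_cases hvB : v ∈ Bad
    · have := hc₂ v (Finset.mem_union_right _ hvB)
      rw [if_pos hvB, Set.mem_ofPred_eq, ← map_sub] at this
      have h1 : v.valuation k (c - (j v : k)) ≤ 1 := by
        rw [← v.valuedAdicCompletion_eq_valuation' (c - (j v : k))]; exact this.le
      have h2 : v.valuation k ((j v : k)) ≤ 1 := by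
        rw [← map_natCast (algebraMap (𝓞 k) k)]; exact v.valuation_le_one _
      simpa using Valuation.map_add_le _ h1 h2
    · exact hc₁ v (by simp [hv1, hvB]) hW2
  by_cases hvB : v ∈ Bad
  · exfalso
    set A := (v.valuation k).valuationSubring
    set g := minpoly k x
    obtain ⟨G, hG⟩ := (lifts_iff_coeff_lifts (f := algebraMap A k) g).2
      fun i => ⟨⟨g.coeff i, valuation_minpoly_coeff (hxint v hv1 hW2) i⟩, rfl⟩
    rw [coe_mapRingHom] at hG
    have hj1 : v.valuation k (c - (j v : k)) < 1 := by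
      have := hc₂ v (Finset.mem_union_right _ hvB)
      rw [if_pos hvB, Set.mem_ofPred_eq, ← map_sub] at this
      rw [← v.valuedAdicCompletion_eq_valuation' (c - (j v : k))]; exact this
    obtain ⟨t, ht⟩ := sub_dvd_eval_sub (⟨c, hci⟩ : A) (j v : A) G
    have hev : ∀ b : A, ((G.eval b : A) : k) = g.eval (b : k) := fun b => by
      rw [← hG, eval_map, show (b : k) = algebraMap A k b from rfl, eval₂_at_apply]; rfl
    have ht' := congrArg (fun b : A => (b : k)) ht
    push_cast [hev] at ht'
    have hsmall : v.valuation k (g.eval c - g.eval (j v : k)) < 1 := by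
      rw [ht', map_mul]
      exact lt_of_le_of_lt (mul_le_of_le_one_right' t.2) hj1
    have hgc : v.valuation k (g.eval c) = 1 :=
      (Valuation.map_eq_of_sub_lt _ (by rwa [hj v hvB])).trans (hj v hvB)
    have : Algebra.norm k (algebraMap k L c - x) = g.eval c := norm_sub x hprim c
    rw [← this, show algebraMap k L c - x = algebraMap k L (-1) * y by rw [hy, map_neg, map_one]; ring, map_mul,
      Algebra.norm_algebraMap, map_mul, map_pow, Valuation.map_neg, map_one, one_pow, one_mul] at hgc
    exact hNk.ne hgc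
  have hWB : W ∉ B := fun hW => hvB (by
    simp only [Bad, Finset.mem_sdiff, Finset.mem_erase, Finset.mem_image]
    exact ⟨⟨hW2, W, hW, rfl⟩, hv1⟩)
  refine hB W hWB (algebraMap k K c) ((valuation_algebraMap_le_one W c).2 hci) ?_
  rw [← norm_sub x hprimK, ← IsScalarTower.algebraMap_apply,
    show algebraMap k L c - x = algebraMap K L (-1) * y by rw [hy, map_neg, map_one]; ring, map_mul,
    Algebra.norm_algebraMap, map_mul, map_pow, Valuation.map_neg, map_one, one_pow, one_mul]
  exact hlt

end Groth.Agent.NFApprox
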