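import Groth.Agent.NFApprox.Master

/-! The absolute case of `master`. -/

set_option autoImplicit false
universe u v

open IsDedekindDomain HeightOneSpectrum NumberField
open scoped TensorProduct Classical

namespace Groth.Agent.NFApprox

variable {k : Type u} [Field k] {L : Type u} [Field L] [Algebra k L] {ι : Type*} [Fintype ι]

/-- The norm of the element with given coordinates. -/
noncomputable def norm1 (A : Type v) [CommRing A] [Algebra k A] (e : Module.Basis ι k L) (c : ι → A) : A :=
  Algebra.norm A ((Algebra.TensorProduct.basis A e).equivFun.symm c)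

lemma norm1_algebraMap (A : Type v) [CommRing A] [Algebra k A] (e : Module.Basis ι k L) (x : L) :
    norm1 A e (fun i => algebraMap k A (e.repr x i)) = algebraMap k A (Algebra.norm k x) := by
  have h1 : (Algebra.TensorProduct.basis A e).equivFun.symm (fun i => algebraMap k A (e.repr x i)) =
      (1 : A) ⊗ₜ[k] x := by
    rw [LinearEquiv.symm_apply_eq]
    ext i
    simp [Algebra.algebraMap_eq_smul_one]
  rw [norm1, h1, Algebra.norm_eq_matrix_det (Algebra.TensorProduct.basis A e), Algebra.norm_eq_matrix_det e,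
    RingHom.map_det]
  congr 1
  ext i j
  simp [Algebra.leftMulMatrix_eq_repr_mul, Algebra.algebraMap_eq_smul_one]

lemma continuous_norm1 (A : Type v) [CommRing A] [Algebra k A] [TopologicalSpace A] [IsTopologicalRing A]
    (e : Module.Basis ι k L) : Continuous (norm1 A e) := by
  set Φ : (ι → A) →ₗ[A] Matrix ι ι A :=
    (Algebra.leftMulMatrix (Algebra.TensorProduct.basis A e)).toLinearMap ∘ₗ
      (Algebra.TensorProduct.basis A e).equivFun.symm.toLinearMap
  have hΦ : Continuous Φ := IsModuleTopology.continuous_of_linearMap Φ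
  have : norm1 A e = fun c => (Φ c).det := by
    funext c
    rw [norm1, Algebra.norm_eq_matrix_det (Algebra.TensorProduct.basis A e)]
    rfl
  rw [this]
  exact hΦ.matrix_det

variable [NumberField k] [NumberField L]

lemma under_self (W : HeightOneSpectrum (𝓞 k)) : under k W = W := by
  apply HeightOneSpectrum.ext
  show W.asIdeal.under (𝓞 k) = W.asIdeal
  simp [Ideal.under]

/-- Strong approximation for norms from `L`. -/
theorem exists_norm_near
    (Sf : Finset (HeightOneSpectrum (𝓞 k))) (Si : Finset (InfinitePlace k))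
    (tf : (v : HeightOneSpectrum (𝓞 k)) → v.adicCompletion k) (ti : (w : InfinitePlace k) → w.Completion)
    (htf : ∀ v ∈ Sf, ∃ x : (v.adicCompletion k) ⊗[k] L, Algebra.norm (v.adicCompletion k) x = tf v)
    (hti : ∀ w ∈ Si, ∃ x : w.Completion ⊗[k] L, Algebra.norm w.Completion x = ti w)
    (Uf : (v : HeightOneSpectrum (𝓞 k)) → Set (v.adicCompletion k))
    (hUf : ∀ v ∈ Sf, IsOpen (Uf v) ∧ tf v ∈ Uf v)
    (Ui : (w : InfinitePlace k) → Set w.Completion) (hUi : ∀ w ∈ Si, IsOpen (Ui w) ∧ ti w ∈ Ui w)
    (v₀ : HeightOneSpectrum (𝓞 k)) (hv₀ : v₀ ∉ Sf) :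
    ∃ x : L, x ≠ 0 ∧ (∀ v ∈ Sf, algebraMap k (v.adicCompletion k) (Algebra.norm k x) ∈ Uf v) ∧
      (∀ w ∈ Si, algebraMap k w.Completion (Algebra.norm k x) ∈ Ui w) ∧
      ∀ v : HeightOneSpectrum (𝓞 k), v ∉ Sf → v ≠ v₀ →
        v.valuation k (Algebra.norm k x) ≤ 1 ∧
          (v.valuation k (Algebra.norm k x) = 1 ∨ Nonempty (L →ₐ[k] v.adicCompletion k)) := by
  obtain ⟨s, e, he⟩ := FiniteDimensional.exists_is_basis_integral (𝓞 k) k L
  have he' : ∀ i, IsIntegral ℤ (e i) := fun i => isIntegral_trans _ (he i)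
  obtain ⟨x, hx0, hf, hi, hW⟩ := master (K := k) e he' v₀ Sf hv₀ (fun v => norm1 _ e ⁻¹' Uf v)
    (fun v hv => ⟨(hUf v hv).1.preimage (continuous_norm1 _ e), by
      obtain ⟨y, hy⟩ := htf v hv
      exact ⟨(Algebra.TensorProduct.basis (v.adicCompletion k) e).equivFun y,
        by simp only [Set.mem_preimage, norm1, LinearEquiv.symm_apply_apply, hy]; exact (hUf v hv).2⟩⟩)
    (fun w => if w ∈ Si then norm1 _ e ⁻¹' Ui w else Set.univ)
    (fun w => by
      split_ifs with hw
      · refine ⟨(hUi w hw).1.preimage (continuous_norm1 _ e), ?_⟩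
        obtain ⟨y, hy⟩ := hti w hw
        exact ⟨(Algebra.TensorProduct.basis w.Completion e).equivFun y,
          by simp only [Set.mem_preimage, norm1, LinearEquiv.symm_apply_apply, hy]; exact (hUi w hw).2⟩
      · exact ⟨isOpen_univ, Set.univ_nonempty⟩)
  refine ⟨x, hx0, fun v hv => ?_, fun w hw => ?_, fun v h1 h2 => hW v (by rwa [under_self]) (by rwa [under_self])⟩
  · have := hf v hv
    rwa [Set.mem_preimage, norm1_algebraMap] at this
  · have := hi w
    rwa [if_pos hw, Set.mem_preimage, norm1_algebraMap] at this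

end Groth.Agent.NFApprox
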