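import Mathlib

/-! Strong approximation for the additive group of a number field. -/

set_option autoImplicit false
universe u

open IsDedekindDomain NumberField WithZero Filter
open scoped Classical

namespace Groth.Agent.NFApprox

variable {k : Type u} [Field k] [NumberField k]

/-- Elements close to a point of an open set of an adic completion are in the set. -/
lemma exists_bound_of_isOpen {v : HeightOneSpectrum (𝓞 k)} {U : Set (v.adicCompletion k)} (hU : IsOpen U)
    {x : v.adicCompletion k} (hx : x ∈ U) :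
    ∃ N : ℕ, ∀ y : v.adicCompletion k, Valued.v (y - x) ≤ exp (-(N : ℤ)) → y ∈ U := by
  obtain ⟨γ, hγ⟩ := Valued.mem_nhds.1 (hU.mem_nhds hx)
  set g := MonoidWithZeroHom.ValueGroup₀.embedding γ.1 with hg
  have hg0 : g ≠ 0 := by rw [hg]; simp
  refine ⟨(-(log g - 1)).toNat, fun y hy => hγ ?_⟩
  show (Valued.v : Valuation (v.adicCompletion k) ℤᵐ⁰).restrict (y - x) < γ.1
  rw [Valuation.restrict_lt_iff_lt_embedding]
  refine lt_of_le_of_lt hy ?_
  rw [← hg]
  calc exp (-((-(log g - 1)).toNat : ℤ)) ≤ exp (log g - 1) := exp_le_exp.2 (by omega)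
    _ < exp (log g) := exp_lt_exp.2 (by omega)
    _ = g := exp_log hg0

lemma finite_valuation_ne_one {x : k} (hx : x ≠ 0) :
    {v : HeightOneSpectrum (𝓞 k) | v.valuation k x ≠ 1}.Finite := by
  refine ((HeightOneSpectrum.Support.finite (𝓞 k) x).union
    (HeightOneSpectrum.Support.finite (𝓞 k) x⁻¹)).subset fun v hv => ?_
  rcases lt_or_gt_of_ne hv with h | h
  · right
    show 1 < v.valuation k x⁻¹
    rw [map_inv₀]
    exact (one_lt_inv₀ (zero_lt_iff.2 ((Valuation.ne_zero_iff _).2 hx))).2 h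
  · left; exact h

/-- Approximation at finitely many finite places by elements integral elsewhere. -/
lemma finite_approx (F : Finset (HeightOneSpectrum (𝓞 k))) (t : (v : HeightOneSpectrum (𝓞 k)) → v.adicCompletion k)
    (N : ℕ) :
    ∃ c : k, (∀ v ∉ F, v.valuation k c ≤ 1) ∧
      ∀ v ∈ F, Valued.v (algebraMap k (v.adicCompletion k) c - t v) ≤ exp (-(N : ℤ)) := by
  classical
  have hden : ∀ v : HeightOneSpectrum (𝓞 k), ∃ a : k,
      Valued.v (algebraMap k (v.adicCompletion k) a - t v) ≤ exp (-(N : ℤ)) := by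
    intro v
    have hne : (exp (-(N : ℤ)) : ℤᵐ⁰) ≠ 0 := exp_ne_zero
    obtain ⟨π, hπ⟩ := v.valuedAdicCompletion_surjective k (exp (-(N : ℤ)))
    have ho : IsOpen {y : v.adicCompletion k | Valued.v (y - t v) < Valued.v π} := by
      have := (Valued.isOpen_ball (R := v.adicCompletion k)
        ((Valued.v : Valuation (v.adicCompletion k) ℤᵐ⁰).restrict π)).preimage
        (show Continuous fun y : v.adicCompletion k => y - t v by fun_prop)
      convert this using 1
      ext y
      simp [Valuation.restrict_lt_iff]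
    obtain ⟨a, ha⟩ := (HeightOneSpectrum.denseRange_algebraMap k v).exists_mem_open ho
      ⟨t v, by simp [hπ, hne, zero_lt_iff]⟩
    exact ⟨a, by rw [← hπ]; exact le_of_lt ha⟩
  choose a ha using hden
  obtain ⟨⟨D, hD⟩, hDa⟩ := IsLocalization.exist_integer_multiples (nonZeroDivisors (𝓞 k)) F (fun v => a v)
  have hD0 : algebraMap (𝓞 k) k D ≠ 0 := by
    simpa using nonZeroDivisors.ne_zero hD
  choose n hn using hDa
  obtain ⟨G, hG⟩ : ∃ G : Finset (HeightOneSpectrum (𝓞 k)), ∀ v, v ∈ G ↔ v ∈ F ∨ v.valuation k (algebraMap (𝓞 k) k D) ≠ 1 :=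
    ⟨F ∪ (finite_valuation_ne_one hD0).toFinset, fun v => by simp⟩
  set e : HeightOneSpectrum (𝓞 k) → ℕ := fun v => N + (-(log (v.valuation k (algebraMap (𝓞 k) k D)))).toNat with he
  obtain ⟨y, hy⟩ := IsDedekindDomain.exists_forall_sub_mem_ideal (s := G) (fun v => v.asIdeal) e
    (fun v _ => v.prime) (fun v _ w _ hvw h => hvw (HeightOneSpectrum.ext h))
    (fun v => if h : v.1 ∈ F then n v.1 h else 0)
  have hle : ∀ v : HeightOneSpectrum (𝓞 k), ∀ z : 𝓞 k, z ∈ v.asIdeal ^ e v →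
      v.valuation k (algebraMap (𝓞 k) k z / algebraMap (𝓞 k) k D) ≤ exp (-(N : ℤ)) := by
    intro v z hz
    have h1 : v.valuation k (algebraMap (𝓞 k) k z) ≤ exp (-(e v : ℤ)) := by
      rw [HeightOneSpectrum.valuation_of_algebraMap]; exact (v.intValuation_le_pow_iff_mem z _).2 hz
    rw [map_div₀]
    have hd0 : v.valuation k (algebraMap (𝓞 k) k D) ≠ 0 := (Valuation.ne_zero_iff _).2 hD0
    have h2 : exp (-(e v : ℤ)) ≤ exp (-(N : ℤ)) * v.valuation k (algebraMap (𝓞 k) k D) := by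
      conv_rhs => rw [← exp_log hd0, ← exp_add]
      exact exp_le_exp.2 (by simp only [he]; omega)
    exact (div_le_iff₀ (zero_lt_iff.2 hd0)).2 (h1.trans h2)
  refine ⟨algebraMap (𝓞 k) k y / algebraMap (𝓞 k) k D, fun v hv => ?_, fun v hv => ?_⟩
  · by_cases hvG : v ∈ G
    · have := hy v hvG
      simp only [hv, dif_neg, not_false_iff, sub_zero] at this
      refine (hle v y this).trans ?_
      rw [← exp_zero]; exact exp_le_exp.2 (by omega)
    · have h1 : v.valuation k (algebraMap (𝓞 k) k D) = 1 := by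
        by_contra h; exact hvG ((hG v).2 (Or.inr h))
      rw [map_div₀, h1, div_one]; exact v.valuation_le_one y
  · have := hy v ((hG v).2 (Or.inl hv))
    simp only [hv, dif_pos] at this
    have h1 := hle v _ this
    have h2 : algebraMap (𝓞 k) k (n v hv) = algebraMap (𝓞 k) k D * a v := by
      rw [hn v hv, Algebra.smul_def]
    rw [map_sub, h2, sub_div, mul_div_cancel_left₀ _ hD0] at h1
    have h3 : Valued.v (algebraMap k (v.adicCompletion k) (algebraMap (𝓞 k) k y / algebraMap (𝓞 k) k D - a v))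
        ≤ exp (-(N : ℤ)) := by
      refine le_of_eq_of_le ?_ h1
      exact v.valuedAdicCompletion_eq_valuation' _
    rw [show algebraMap k (v.adicCompletion k) (algebraMap (𝓞 k) k y / algebraMap (𝓞 k) k D) - t v =
      algebraMap k (v.adicCompletion k) (algebraMap (𝓞 k) k y / algebraMap (𝓞 k) k D - a v) +
        (algebraMap k (v.adicCompletion k) (a v) - t v) by rw [map_sub]; abel]
    exact (Valuation.map_add _ _ _).trans (max_le h3 (ha v))

section dense

open mixedEmbedding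

variable (v₀ : HeightOneSpectrum (𝓞 k))

lemma exists_small {ε : ℝ} (hε : 0 < ε) :
    ∃ e : k, e ≠ 0 ∧ (∀ v ≠ v₀, v.valuation k e ≤ 1) ∧ ‖mixedEmbedding k e‖ < ε := by
  classical
  have hc : ∀ j : ℕ, ∃ c : k, (∀ v ≠ v₀, v.valuation k c ≤ 1) ∧ v₀.valuation k c = exp ((j : ℤ) + 1) := by
    intro j
    obtain ⟨x, hx⟩ := v₀.valuedAdicCompletion_surjective k (exp ((j : ℤ) + 1))
    obtain ⟨c, h1, h2⟩ := finite_approx {v₀} (fun v => if h : v = v₀ then h ▸ x else 0) 0
    refine ⟨c, fun v hv => h1 v (by simpa using hv), ?_⟩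
    have h3 := h2 v₀ (by simp)
    simp only [dif_pos] at h3
    rw [← v₀.valuedAdicCompletion_eq_valuation' c]
    have hlt : Valued.v (algebraMap k (v₀.adicCompletion k) c - x) < Valued.v x := by
      rw [hx]; exact h3.trans_lt (exp_lt_exp.2 (by omega))
    show Valued.v (algebraMap k (v₀.adicCompletion k) c) = _
    rw [← hx]
    exact Valuation.map_eq_of_sub_lt _ hlt
  choose c hc1 hc2 using hc
  set b := latticeBasis k
  obtain ⟨y, -, φ, hφ, hlim⟩ := tendsto_subseq_of_bounded (ZSpan.fundamentalDomain_isBounded b)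
    (x := fun j => ZSpan.fract b (mixedEmbedding k (c j))) (fun j => ZSpan.fract_mem_fundamentalDomain b _)
  obtain ⟨J, hJ⟩ := Metric.tendsto_atTop.1 hlim (ε / 2) (by linarith)
  have hij : φ J < φ (J + 1) := hφ (by omega)
  have hd : ‖ZSpan.fract b (mixedEmbedding k (c (φ (J+1)))) - ZSpan.fract b (mixedEmbedding k (c (φ J)))‖ < ε := by
    have a1 := hJ (J + 1) (by omega)
    have a2 := hJ J le_rfl
    rw [← dist_eq_norm]
    calc _ ≤ _ + _ := dist_triangle_right _ _ y
      _ < ε / 2 + ε / 2 := add_lt_add a1 a2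
      _ = ε := by ring
  generalize φ (J + 1) = i at hij hd
  generalize φ J = i' at hij hd
  obtain ⟨o, ho⟩ : ∃ o : 𝓞 k, mixedEmbedding k (algebraMap (𝓞 k) k o) =
      (ZSpan.floor b (mixedEmbedding k (c i)) : mixedSpace k) - ZSpan.floor b (mixedEmbedding k (c i')) := by
    have := (mem_span_latticeBasis k (x := (ZSpan.floor b (mixedEmbedding k (c i)) : mixedSpace k) -
      ZSpan.floor b (mixedEmbedding k (c i')))).1 (sub_mem (SetLike.coe_mem _) (SetLike.coe_mem _))
    obtain ⟨o, ho⟩ := this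
    exact ⟨o, ho⟩
  refine ⟨c i - c i' - algebraMap (𝓞 k) k o, fun h => ?_, fun v hv => ?_, ?_⟩
  · have h1 : v₀.valuation k (c i) ≤ max (v₀.valuation k (c i')) (v₀.valuation k (algebraMap (𝓞 k) k o)) := by
      rw [show c i = c i' + algebraMap (𝓞 k) k o by linear_combination h]
      exact Valuation.map_add _ _ _
    rw [hc2, hc2] at h1
    refine absurd h1 (not_le.2 (max_lt (exp_lt_exp.2 (by omega)) ?_))
    refine (v₀.valuation_le_one o).trans_lt ?_
    rw [← exp_zero]; exact exp_lt_exp.2 (by omega)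
  · exact (v.valuation k).map_sub_le ((v.valuation k).map_sub_le (hc1 _ v hv) (hc1 _ v hv)) (v.valuation_le_one o)
  · convert hd using 2
    rw [map_sub, map_sub, ho, ZSpan.fract_apply, ZSpan.fract_apply]
    abel

/-- The elements integral outside `v₀` are dense at infinity. -/
lemma exists_near_mixed (x : mixedSpace k) {ε : ℝ} (hε : 0 < ε) :
    ∃ c : k, (∀ v ≠ v₀, v.valuation k c ≤ 1) ∧ ‖mixedEmbedding k c - x‖ < ε := by
  classical
  set b := latticeBasis k
  set B : ℝ := ∑ i, ‖b i‖ with hB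
  have hB0 : 0 ≤ B := Finset.sum_nonneg fun i _ => norm_nonneg _
  obtain ⟨e, he0, he1, he2⟩ := exists_small v₀ (ε := ε / (B + 1)) (by positivity)
  obtain ⟨o, ho⟩ := (mem_span_latticeBasis k
    (x := (ZSpan.floor b (mixedEmbedding k e⁻¹ * x) : mixedSpace k))).1 (SetLike.coe_mem _)
  refine ⟨e * algebraMap (𝓞 k) k o, fun v hv => ?_, ?_⟩
  · rw [map_mul]; exact mul_le_one' (he1 v hv) (v.valuation_le_one o)
  · have hkey : mixedEmbedding k (e * algebraMap (𝓞 k) k o) - x =
        -(mixedEmbedding k e * ZSpan.fract b (mixedEmbedding k e⁻¹ * x)) := by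
      have ho' : mixedEmbedding k (algebraMap (𝓞 k) k o) = ZSpan.floor b (mixedEmbedding k e⁻¹ * x) := ho
      rw [map_mul, ho', ZSpan.fract_apply, mul_sub, ← mul_assoc, ← map_mul, mul_inv_cancel₀ he0, map_one, one_mul]
      abel
    rw [hkey, norm_neg]
    have hlt : ε / (B + 1) * B < ε := by
      rw [div_mul_eq_mul_div, div_lt_iff₀ (by linarith)]
      nlinarith
    exact lt_of_le_of_lt ((norm_mul_le _ _).trans
      (mul_le_mul he2.le (ZSpan.norm_fract_le b _) (norm_nonneg _) (by positivity))) hlt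

end dense

lemma norm_ringEquiv_sub_lt {a x : InfiniteAdeleRing k} {r : ℝ}
    (h : ‖InfiniteAdeleRing.ringEquiv_mixedSpace k a - InfiniteAdeleRing.ringEquiv_mixedSpace k x‖ < r)
    (w : InfinitePlace k) : dist (a w) (x w) < r := by
  rcases w.isReal_or_isComplex with hw | hw
  · have := lt_of_le_of_lt ((norm_le_pi_norm _ ⟨w, hw⟩).trans (norm_fst_le _)) h
    rw [InfiniteAdeleRing.ringEquiv_mixedSpace_apply, InfiniteAdeleRing.ringEquiv_mixedSpace_apply] at this
    rw [← (InfinitePlace.Completion.isometry_extensionEmbeddingOfIsReal hw).dist_eq, dist_eq_norm]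
    exact this
  · have := lt_of_le_of_lt ((norm_le_pi_norm _ ⟨w, hw⟩).trans (norm_snd_le _)) h
    rw [InfiniteAdeleRing.ringEquiv_mixedSpace_apply, InfiniteAdeleRing.ringEquiv_mixedSpace_apply] at this
    rw [← (InfinitePlace.Completion.isometry_extensionEmbedding w).dist_eq, dist_eq_norm]
    exact this

/-- Strong approximation with one finite place omitted. -/
theorem exists_near (v₀ : HeightOneSpectrum (𝓞 k)) (F : Finset (HeightOneSpectrum (𝓞 k))) (hv₀ : v₀ ∉ F)
    (U : (v : HeightOneSpectrum (𝓞 k)) → Set (v.adicCompletion k))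
    (hU : ∀ v ∈ F, IsOpen (U v) ∧ (U v).Nonempty)
    (V : (w : InfinitePlace k) → Set w.Completion) (hV : ∀ w, IsOpen (V w) ∧ (V w).Nonempty) :
    ∃ c : k, (∀ v, v ∉ F → v ≠ v₀ → v.valuation k c ≤ 1) ∧
      (∀ v ∈ F, algebraMap k (v.adicCompletion k) c ∈ U v) ∧ ∀ w, algebraMap k w.Completion c ∈ V w := by
  classical
  set t : (v : HeightOneSpectrum (𝓞 k)) → v.adicCompletion k :=
    fun v => if h : v ∈ F then (hU v h).2.some else 0 with ht
  have htU : ∀ v ∈ F, t v ∈ U v := fun v hv => by simp only [ht, dif_pos hv]; exact (hU v hv).2.some_mem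
  have hNb : ∀ v, ∃ N : ℕ, v ∈ F → ∀ y, Valued.v (y - t v) ≤ exp (-(N : ℤ)) → y ∈ U v := fun v => by
    by_cases hv : v ∈ F
    · obtain ⟨N, hN⟩ := exists_bound_of_isOpen (hU v hv).1 (htU v hv); exact ⟨N, fun _ => hN⟩
    · exact ⟨0, fun h => absurd h hv⟩
  choose Nv hNv using hNb
  set N := F.sup Nv
  obtain ⟨c₁, hc₁, hc₁F⟩ := finite_approx F t N
  -- a scale vanishing deeply at `F`
  obtain ⟨M₀, hM₀, hM₀'⟩ : ∃ x ∈ ∏ v ∈ F, v.asIdeal ^ N, x ≠ 0 := by
    refine Submodule.exists_mem_ne_zero_of_ne_bot ?_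
    exact Finset.prod_ne_zero_iff.2 fun v _ => pow_ne_zero _ v.ne_bot
  have hMF : ∀ v ∈ F, v.valuation k (algebraMap (𝓞 k) k M₀) ≤ exp (-(N : ℤ)) := fun v hv => by
    rw [HeightOneSpectrum.valuation_of_algebraMap]
    refine (v.intValuation_le_pow_iff_mem M₀ N).2 ?_
    exact Ideal.le_of_dvd (Finset.dvd_prod_of_mem _ hv) hM₀
  have hM0 : algebraMap (𝓞 k) k M₀ ≠ 0 := by simpa using hM₀'
  set M := algebraMap (𝓞 k) k M₀ with hM
  choose s hs using fun w => (hV w).2
  have hr : ∀ w : InfinitePlace k, ∃ r > 0, Metric.ball (s w) r ⊆ V w := fun w =>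
    Metric.isOpen_iff.1 (hV w).1 _ (hs w)
  choose r hr0 hr using hr
  obtain ⟨r₀, hr₀, hr₀'⟩ : ∃ r₀ > 0, ∀ w, r₀ ≤ r w := ⟨Finset.univ.inf' Finset.univ_nonempty r,
    (Finset.lt_inf'_iff _).2 fun w _ => hr0 w, fun w => Finset.inf'_le _ (Finset.mem_univ w)⟩
  set E := mixedEmbedding k
  set S : mixedEmbedding.mixedSpace k := InfiniteAdeleRing.ringEquiv_mixedSpace k s
  obtain ⟨c₂, hc₂, hc₂'⟩ := exists_near_mixed v₀ (E M⁻¹ * (S - E c₁))
    (ε := r₀ / (‖E M‖ + 1)) (by positivity)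
  refine ⟨c₁ + M * c₂, fun v hv hv' => ?_, fun v hv => ?_, fun w => ?_⟩
  · refine Valuation.map_add_le _ (hc₁ v hv) ?_
    rw [map_mul]; exact mul_le_one' (v.valuation_le_one M₀) (hc₂ v hv')
  · refine hNv v hv _ ?_
    rw [map_add, add_sub_right_comm]
    have hN : exp (-(N : ℤ)) ≤ exp (-(Nv v : ℤ)) :=
      exp_le_exp.2 (by have := Finset.le_sup (f := Nv) hv; omega)
    refine ((Valuation.map_add _ _ _).trans (max_le (hc₁F v hv) ?_)).trans hN
    refine le_of_eq_of_le (v.valuedAdicCompletion_eq_valuation' (M * c₂)) ?_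
    rw [Valuation.map_mul]
    refine (mul_le_mul' (hMF v hv) (hc₂ v ?_)).trans_eq (mul_one _)
    rintro rfl; exact hv₀ hv
  · refine hr w ?_
    rw [Metric.mem_ball]
    refine lt_of_lt_of_le (norm_ringEquiv_sub_lt (a := algebraMap k _ (c₁ + M * c₂)) (x := s) ?_ w) (hr₀' w)
    rw [← InfiniteAdeleRing.mixedEmbedding_eq_algebraMap_comp]
    have hkey : E (c₁ + M * c₂) - S = E M * (E c₂ - E M⁻¹ * (S - E c₁)) := by
      rw [mul_sub, ← mul_assoc, ← map_mul, ← map_mul, mul_inv_cancel₀ hM0, map_one, one_mul, map_add]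
      abel
    show ‖E (c₁ + M * c₂) - S‖ < r₀
    rw [hkey]
    have hlt : ‖E M‖ * (r₀ / (‖E M‖ + 1)) < r₀ := by
      rw [mul_div_assoc', div_lt_iff₀ (by positivity)]
      nlinarith
    exact lt_of_le_of_lt ((norm_mul_le _ _).trans (mul_le_mul_of_nonneg_left hc₂'.le (norm_nonneg _))) hlt

end Groth.Agent.NFApprox
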