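import Groth.Agent.NFApprox.Congr
import Groth.Agent.NFApprox.Strong
import Groth.Agent.NFApprox.Norm
import Mathlib

/-! Units at unramified places are local norms. -/

set_option autoImplicit false
universe u

open IsDedekindDomain HeightOneSpectrum NumberField
open scoped Classical TensorProduct

namespace Groth.Agent.NFApprox

variable {k K L : Type u} [Field k] [NumberField k] [Field K] [NumberField K] [Field L] [NumberField L]
  [Algebra k K] [Algebra k L] [Algebra K L] [IsScalarTower k K L]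

/-- An element whose relative norm is a unit is a unit. -/
lemma isUnit_of_bcNorm {A : Type u} [CommRing A] [Algebra k A] {x : A ⊗[k] L}
    (h : IsUnit (bcNorm k A K L x)) : IsUnit x := by
  letI := (bcMap k A K L).toRingHom.toAlgebra
  obtain ⟨f, -⟩ := exists_basis k A K L
  have : Module.Free (A ⊗[k] K) (A ⊗[k] L) := Module.Free.of_basis f
  have : Module.Finite (A ⊗[k] K) (A ⊗[k] L) := Module.Finite.of_basis f
  have hdet : IsUnit (LinearMap.det (Algebra.lmul (A ⊗[k] K) (A ⊗[k] L) x)) := h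
  obtain ⟨y, hy⟩ := ((Module.End.isUnit_iff _).1 ((LinearMap.isUnit_iff_isUnit_det _).2 hdet)).2 1
  exact IsUnit.of_mul_eq_one y hy

lemma exists_exp_lt {γ : WithZero (Multiplicative ℤ)} (hγ : γ ≠ 0) : ∃ N : ℕ, WithZero.exp (-(N : ℤ)) < γ :=
  ⟨(-(WithZero.log γ)).toNat + 1, by
    conv_rhs => rw [← WithZero.exp_log hγ]
    exact WithZero.exp_lt_exp.2 (by omega)⟩

/-- A sequence with small consecutive differences converges. -/
lemma exists_lim (v : HeightOneSpectrum (𝓞 k)) (c : ℕ → v.adicCompletion k)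
    (h : ∀ M : ℕ, ∃ N, ∀ n ≥ N, Valued.v (c (n + 1) - c n) ≤ WithZero.exp (-(M : ℤ))) :
    ∃ l, Filter.Tendsto c Filter.atTop (nhds l) := by
  refine cauchySeq_tendsto_of_complete ?_
  rw [CauchySeq, Valued.cauchy_iff]
  refine ⟨inferInstance, fun γ => ?_⟩
  obtain ⟨M, hM⟩ := exists_exp_lt (γ := MonoidWithZeroHom.ValueGroup₀.embedding γ.1) (by simp)
  obtain ⟨N, hN⟩ := h M
  refine ⟨c '' Set.Ici N, Filter.image_mem_map (Filter.mem_atTop N), ?_⟩
  rintro _ ⟨a, ha, rfl⟩ _ ⟨b, hb, rfl⟩
  have key : ∀ n ≥ N, Valued.v (c n - c N) ≤ WithZero.exp (-(M : ℤ)) := by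
    intro n hn
    induction n, hn using Nat.le_induction with
    | base => simp
    | succ n hn ih =>
      rw [show c (n + 1) - c N = (c (n + 1) - c n) + (c n - c N) by ring]
      exact Valuation.map_add_le _ (hN n hn) ih
  rw [Valuation.restrict_lt_iff_lt_embedding]
  refine lt_of_le_of_lt ?_ hM
  rw [show c b - c a = (c b - c N) + (c N - c a) by ring]
  exact Valuation.map_add_le _ (key b hb) (by rw [Valuation.map_sub_swap]; exact key a ha)

lemma exists_integral_approx (v : HeightOneSpectrum (𝓞 k))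
    (hunr : ∀ Q : HeightOneSpectrum (𝓞 L), under k (under K Q) = v → ramIdx K Q = 1)
    (z : K) (hz : ∀ W : HeightOneSpectrum (𝓞 K), under k W = v → W.valuation K z = 1) (N : ℕ) :
    ∃ x : 𝓞 L, ∀ W : HeightOneSpectrum (𝓞 K), under k W = v →
      W.valuation K (Algebra.norm K (x : L) - z) ≤ WithZero.exp (-(N : ℤ)) := by
  set S := (finite_places_over (K := K) ({v} : Set (HeightOneSpectrum (𝓞 k))) (Set.finite_singleton v)).toFinset
  have hS : ∀ W, W ∈ S ↔ under k W = v := fun W => by simp [S]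
  have h := fun W (hW : under k W = v) => exists_norm_congr_place (L := L) W (fun Q hQ => hunr Q (hQ.symm ▸ hW)) z (hz W hW) N
  choose! xW hx1 hx2 using h
  set T := (finite_places_over (K := L) ({W | W ∈ S} : Set (HeightOneSpectrum (𝓞 K))) S.finite_toSet).toFinset
  obtain ⟨x, hxout, hx⟩ := finite_approx T (fun Q => algebraMap L _ (xW (under K Q))) N
  have hsmall : ∀ Q : HeightOneSpectrum (𝓞 L), ∀ hW : under k (under K Q) = v,
      Q.valuation L (x - xW (under K Q)) ≤ WithZero.exp (-(N : ℤ)) := fun Q hW => by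
    have h1 := hx Q (by simp [T, (hS _).2 hW])
    rw [← map_sub] at h1
    rw [← Q.valuedAdicCompletion_eq_valuation' (x - xW (under K Q))]; exact h1
  have hint : ∀ Q : HeightOneSpectrum (𝓞 L), Q.valuation L x ≤ 1 := by
    intro Q
    by_cases hQ : Q ∈ T
    · have hW : under k (under K Q) = v := by simpa [T, hS] using hQ
      rw [show x = (x - xW (under K Q)) + xW (under K Q) by ring]
      exact Valuation.map_add_le _ ((hsmall Q hW).trans (by rw [← WithZero.exp_zero, WithZero.exp_le_exp]; omega))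
        (hx1 _ hW Q rfl)
    · exact hxout Q hQ
  obtain ⟨x', hx'⟩ := HeightOneSpectrum.mem_integers_of_valuation_le_one L x hint
  refine ⟨x', fun W hW => ?_⟩
  rw [show (x' : L) = x from hx']
  obtain ⟨π, hπ⟩ := W.valuation_exists_uniformizer K
  have hπ0 : π ≠ 0 := fun h => by rw [h, map_zero] at hπ; exact WithZero.exp_ne_zero hπ.symm
  have hη : IntAt W ((x - xW W) * algebraMap K L (π ^ N)⁻¹) := by
    refine IntAt.of_valuation_le fun Q hQ => ?_
    have h2 := hsmall Q (hQ ▸ hW)
    rw [hQ] at h2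
    rw [map_mul, valuation_algebraMap_eq, hQ, hunr Q (by rw [hQ, hW]), pow_one, map_inv₀, map_pow, hπ,
      ← div_eq_mul_inv, div_le_one₀ (pow_pos WithZero.exp_pos _), ← WithZero.exp_nsmul, nsmul_eq_mul, mul_neg, mul_one]
    exact h2
  have hy : IntAt W (xW W) := IntAt.of_valuation_le (hx1 W hW)
  have ht : W.valuation K (π ^ N) ≤ WithZero.exp (-(N : ℤ)) := by
    rw [map_pow, hπ, ← WithZero.exp_nsmul, nsmul_eq_mul, mul_neg, mul_one]
  have hex : x = xW W + algebraMap K L (π ^ N) * ((x - xW W) * algebraMap K L (π ^ N)⁻¹) := by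
    rw [mul_left_comm, ← map_mul, mul_inv_cancel₀ (pow_ne_zero N hπ0), map_one, mul_one, add_sub_cancel]
  have h5 := (norm_sub_norm W x (xW W) (π ^ N) hy _ hη hex
    (ht.trans (by rw [← WithZero.exp_zero, WithZero.exp_le_exp]; omega))).trans ht
  rw [show Algebra.norm K x - z = (Algebra.norm K x - Algebra.norm K (xW W)) + (Algebra.norm K (xW W) - z) by ring]
  exact Valuation.map_add_le _ h5 (hx2 W hW)

/-- A unit at all places over an unramified place is a local norm of a unit. -/
theorem exists_norm_unit (v : HeightOneSpectrum (𝓞 k))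
    (hunr : ∀ Q : HeightOneSpectrum (𝓞 L), under k (under K Q) = v → ramIdx K Q = 1)
    (z : K) (hz : ∀ W : HeightOneSpectrum (𝓞 K), under k W = v → W.valuation K z = 1) (hz0 : z ≠ 0) :
    ∃ x : v.adicCompletion k ⊗[k] L, IsUnit x ∧
      bcNorm k (v.adicCompletion k) K L x = (1 : v.adicCompletion k) ⊗ₜ[k] z := by
  set A := v.adicCompletion k
  set e := Module.Free.chooseBasis k L
  set e' := Module.Free.chooseBasis k K
  set J : Ideal (𝓞 L) := v.asIdeal.map (algebraMap (𝓞 k) (𝓞 L))
  have hJ : J ≠ ⊥ := Ideal.map_ne_bot_of_ne_bot v.ne_bot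
  let P : ℕ → 𝓞 L → Prop := fun m x => ∀ N : ℕ, ∃ y : 𝓞 L, y - x ∈ J ^ m ∧
    ∀ W : HeightOneSpectrum (𝓞 K), under k W = v → W.valuation K (Algebra.norm K (y : L) - z) ≤ WithZero.exp (-(N : ℤ))
  have hstep : ∀ m x, P m x → ∃ x', P (m + 1) x' ∧ x' - x ∈ J ^ m := by
    intro m x hP
    choose y hy1 hy2 using hP
    haveI : Finite (𝓞 L ⧸ J ^ (m + 1)) := Ideal.finiteQuotientOfFreeOfNeBot _ (pow_ne_zero _ hJ)
    obtain ⟨c, hc⟩ := Finite.exists_infinite_fiber fun N => Ideal.Quotient.mk (J ^ (m + 1)) (y N)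
    have hinf := Set.infinite_coe_iff.1 hc
    obtain ⟨N₀, hN₀⟩ := hinf.nonempty
    refine ⟨y N₀, fun N => ?_, hy1 N₀⟩
    obtain ⟨N', hN', hlt⟩ := hinf.exists_gt N
    refine ⟨y N', Ideal.Quotient.eq.1 ((Set.mem_singleton_iff.1 hN').trans (Set.mem_singleton_iff.1 hN₀).symm), fun W hW => ?_⟩
    exact (hy2 N' W hW).trans (WithZero.exp_le_exp.2 (by omega))
  choose g hg1 hg2 using hstep
  let s : (m : ℕ) → {x : 𝓞 L // P m x} := fun m =>
    Nat.rec ⟨0, fun N => by
      obtain ⟨y, hy⟩ := exists_integral_approx v hunr z hz N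
      exact ⟨y, by simp, hy⟩⟩ (fun m x => ⟨g m x.1 x.2, hg1 m x.1 x.2⟩) m
  have hs : ∀ m, (s (m + 1)).1 - (s m).1 ∈ J ^ m := fun m => hg2 m _ _
  choose y hy1 hy2 using fun m => (s m).2 m
  have hy : ∀ m, y (m + 1) - y m ∈ J ^ m := fun m => by
    rw [show y (m + 1) - y m = (y (m + 1) - (s (m + 1)).1) + ((s (m + 1)).1 - (s m).1) - (y m - (s m).1) by ring]
    exact sub_mem (add_mem (Ideal.pow_le_pow_right (Nat.le_succ m) (hy1 (m + 1))) (hs m)) (hy1 m)
  have hval : ∀ (m : ℕ) (x : 𝓞 L), x ∈ J ^ m → ∀ Q : HeightOneSpectrum (𝓞 L), under k Q = v →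
      Q.valuation L (x : L) ≤ WithZero.exp (-(m : ℤ)) := by
    intro m x hx Q hQ
    rw [HeightOneSpectrum.valuation_of_algebraMap, Q.intValuation_le_pow_iff_mem]
    refine Ideal.pow_right_mono ?_ m hx
    rw [Ideal.map_le_iff_le_comap, ← hQ]
    exact le_rfl
  set c : ℕ → Module.Free.ChooseBasisIndex k L → A := fun m i => algebraMap k A (e.repr (y m : L) i)
  have hlim : ∀ i, ∃ l, Filter.Tendsto (fun m => c m i) Filter.atTop (nhds l) := fun i => exists_lim v _ fun M => by
    obtain ⟨N, hN⟩ := exists_coord_bound (K := L) e v M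
    refine ⟨N, fun n hn => ?_⟩
    have h1 := hN ((y (n + 1) - y n : 𝓞 L) : L) (fun Q hQ =>
      (hval n _ (hy n) Q hQ).trans (WithZero.exp_le_exp.2 (by omega))) i
    rw [show ((y (n + 1) - y n : 𝓞 L) : L) = (y (n + 1) : L) - y n from map_sub _ _ _, map_sub, Finsupp.sub_apply] at h1
    rw [← map_sub]
    exact le_of_eq_of_le (v.valuedAdicCompletion_eq_valuation' _) h1
  choose l hl using hlim
  have hcont := (continuous_normMap (k := k) (A := A) (K := K) e e').tendsto l
  have h1 : Filter.Tendsto (fun m => normMap (A := A) e e' (c m)) Filter.atTop (nhds (normMap (A := A) e e' l)) :=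
    hcont.comp (tendsto_pi_nhds.2 hl)
  have h2 : Filter.Tendsto (fun m => normMap (A := A) e e' (c m)) Filter.atTop
      (nhds fun j => algebraMap k A (e'.repr z j)) := by
    refine tendsto_pi_nhds.2 fun j => ?_
    rw [Filter.tendsto_def]
    intro U hU
    obtain ⟨γ, hγ⟩ := Valued.mem_nhds.1 hU
    obtain ⟨M, hM⟩ := exists_exp_lt (γ := MonoidWithZeroHom.ValueGroup₀.embedding γ.1) (by simp)
    obtain ⟨N, hN⟩ := exists_coord_bound (K := K) e' v M
    refine Filter.mem_atTop_sets.2 ⟨N, fun m hm => hγ ?_⟩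
    show Valued.v.restrict (normMap (A := A) e e' (c m) j - algebraMap k A (e'.repr z j)) < _
    rw [Valuation.restrict_lt_iff_lt_embedding]
    refine lt_of_le_of_lt ?_ hM
    rw [normMap_algebraMap, ← map_sub, ← Finsupp.sub_apply, ← map_sub]
    exact le_of_eq_of_le (v.valuedAdicCompletion_eq_valuation' _)
      (hN _ (fun W hW => (hy2 m W hW).trans (WithZero.exp_le_exp.2 (by omega))) j)
  have heq := tendsto_nhds_unique h1 h2
  refine ⟨(Algebra.TensorProduct.basis A e).equivFun.symm l, ?_, ?_⟩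
  rotate_left
  · refine (Algebra.TensorProduct.basis A e').equivFun.injective (heq.trans ?_)
    ext j
    simp [Algebra.algebraMap_eq_smul_one]
  · refine isUnit_of_bcNorm (K := K) ?_
    have : bcNorm k A K L ((Algebra.TensorProduct.basis A e).equivFun.symm l) = (1 : A) ⊗ₜ[k] z := by
      refine (Algebra.TensorProduct.basis A e').equivFun.injective (heq.trans ?_)
      ext j
      simp [Algebra.algebraMap_eq_smul_one]
    rw [this]
    exact (Ne.isUnit hz0).map (Algebra.TensorProduct.includeRight : K →ₐ[k] A ⊗[k] K)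

end Groth.Agent.NFApprox
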