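import Groth.Agent.NFApprox.Strong
import Groth.Agent.NFApprox.Hensel

/-! Places of an extension of number fields, integrality at a place, degree one places. -/

set_option autoImplicit false
universe u

open IsDedekindDomain HeightOneSpectrum NumberField WithZero Polynomial
open scoped Classical

namespace Groth.Agent.NFApprox

variable (k : Type u) [Field k] [NumberField k] {K : Type u} [Field K] [NumberField K] [Algebra k K]

/-- The place of `k` below a place of `K`. -/
noncomputable def under (W : HeightOneSpectrum (𝓞 K)) : HeightOneSpectrum (𝓞 k) where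
  asIdeal := W.asIdeal.under (𝓞 k)
  isPrime := inferInstance
  ne_bot := Ideal.under_ne_bot _ W.ne_bot

variable {k}

instance (W : HeightOneSpectrum (𝓞 K)) : W.asIdeal.LiesOver (under k W).asIdeal := ⟨rfl⟩

lemma under_eq_iff (W : HeightOneSpectrum (𝓞 K)) (v : HeightOneSpectrum (𝓞 k)) :
    under k W = v ↔ W.asIdeal.LiesOver v.asIdeal :=
  ⟨fun h => h ▸ inferInstance, fun h => HeightOneSpectrum.ext h.over.symm⟩

/-- The ramification index over the place below. -/
noncomputable def ramIdx (k : Type u) [Field k] [NumberField k] [Algebra k K] (W : HeightOneSpectrum (𝓞 K)) : ℕ :=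
  (under k W).asIdeal.ramificationIdx' W.asIdeal

lemma ramIdx_ne_zero (W : HeightOneSpectrum (𝓞 K)) : ramIdx k W ≠ 0 :=
  Ideal.IsDedekindDomain.ramificationIdx'_ne_zero_of_liesOver W.asIdeal (under k W).ne_bot

lemma valuation_algebraMap_eq (W : HeightOneSpectrum (𝓞 K)) (x : k) :
    W.valuation K (algebraMap k K x) = (under k W).valuation k x ^ ramIdx k W :=
  (valuation_liesOver K (under k W) W x).symm

lemma valuation_algebraMap_le_one (W : HeightOneSpectrum (𝓞 K)) (x : k) :
    W.valuation K (algebraMap k K x) ≤ 1 ↔ (under k W).valuation k x ≤ 1 := by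
  rw [valuation_algebraMap_eq, pow_le_one_iff (ramIdx_ne_zero W)]

lemma valuation_algebraMap_lt_one (W : HeightOneSpectrum (𝓞 K)) (x : k) :
    W.valuation K (algebraMap k K x) < 1 ↔ (under k W).valuation k x < 1 := by
  rw [valuation_algebraMap_eq, pow_lt_one_iff (ramIdx_ne_zero W)]

lemma valuation_algebraMap_eq_one (W : HeightOneSpectrum (𝓞 K)) (x : k) :
    W.valuation K (algebraMap k K x) = 1 ↔ (under k W).valuation k x = 1 := by
  simp [valuation_algebraMap_eq, ramIdx_ne_zero W]

lemma finite_places_over (F : Set (HeightOneSpectrum (𝓞 k))) (hF : F.Finite) :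
    {W : HeightOneSpectrum (𝓞 K) | under k W ∈ F}.Finite := by
  refine Set.Finite.subset (hF.biUnion (t := fun v => {W : HeightOneSpectrum (𝓞 K) | W.asIdeal ∈ v.asIdeal.primesOver (𝓞 K)})
    fun v _ => (IsDedekindDomain.primesOver_finite v.asIdeal (𝓞 K)).preimage
      (fun a _ b _ h => HeightOneSpectrum.ext h)) fun W hW => ?_
  exact Set.mem_iUnion₂.2 ⟨_, hW, W.isPrime, inferInstance⟩

/-- `y` becomes integral after multiplication by an element of `k` which is a unit at `v`. -/
def IntAt (v : HeightOneSpectrum (𝓞 k)) (y : K) : Prop :=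
  ∃ s : 𝓞 k, s ∉ v.asIdeal ∧ IsIntegral ℤ (algebraMap k K (algebraMap (𝓞 k) k s) * y)

namespace IntAt

variable {v : HeightOneSpectrum (𝓞 k)} {x y : K}

lemma isIntegral_coe (s : 𝓞 k) : IsIntegral ℤ (algebraMap k K (algebraMap (𝓞 k) k s)) :=
  (RingOfIntegers.isIntegral_coe s).map ((algebraMap k K).toIntAlgHom)

lemma of_isIntegral (h : IsIntegral ℤ y) : IntAt v y :=
  ⟨1, fun h1 => v.isPrime.ne_top (Ideal.eq_top_iff_one _ |>.2 h1), by simpa using h⟩

lemma mul (hx : IntAt v x) (hy : IntAt v y) : IntAt v (x * y) := by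
  obtain ⟨s, hs, h⟩ := hx
  obtain ⟨t, ht, h'⟩ := hy
  refine ⟨s * t, fun h1 => (v.isPrime.mem_or_mem h1).elim hs ht, ?_⟩
  have := h.mul h'
  rwa [mul_mul_mul_comm, ← map_mul, ← map_mul] at this

lemma add (hx : IntAt v x) (hy : IntAt v y) : IntAt v (x + y) := by
  obtain ⟨s, hs, h⟩ := hx
  obtain ⟨t, ht, h'⟩ := hy
  refine ⟨s * t, fun h1 => (v.isPrime.mem_or_mem h1).elim hs ht, ?_⟩
  have := (h.mul (isIntegral_coe t)).add (h'.mul (isIntegral_coe s))
  suffices algebraMap k K (algebraMap (𝓞 k) k (s * t)) * (x + y) =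
      algebraMap k K (algebraMap (𝓞 k) k s) * x * algebraMap k K (algebraMap (𝓞 k) k t) +
      algebraMap k K (algebraMap (𝓞 k) k t) * y * algebraMap k K (algebraMap (𝓞 k) k s) by
    rwa [this]
  rw [map_mul, map_mul]; ring

lemma neg (hx : IntAt v x) : IntAt v (-x) := by
  obtain ⟨s, hs, h⟩ := hx
  exact ⟨s, hs, by simpa using h.neg⟩

lemma sub (hx : IntAt v x) (hy : IntAt v y) : IntAt v (x - y) := by
  rw [sub_eq_add_neg]; exact hx.add hy.neg

lemma sum {ι : Type*} (s : Finset ι) (f : ι → K) (h : ∀ i ∈ s, IntAt v (f i)) : IntAt v (∑ i ∈ s, f i) :=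
  Finset.sum_induction _ _ (fun _ _ => IntAt.add) (of_isIntegral isIntegral_zero) h

lemma algebraMap_of_valuation_le {c : k} (hc : v.valuation k c ≤ 1) : IntAt v (algebraMap k K c) := by
  obtain ⟨n, ⟨d, hd⟩, hnd⟩ := exists_primeCompl_mul_eq_of_integer v c hc
  refine ⟨d, hd, ?_⟩
  rw [← map_mul, mul_comm, show c * algebraMap (𝓞 k) k d = algebraMap (𝓞 k) k n from hnd]
  exact isIntegral_coe n

lemma valuation_le (hy : IntAt v y) (W : HeightOneSpectrum (𝓞 K)) (hW : under k W = v) : W.valuation K y ≤ 1 := by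
  obtain ⟨s, hs, h⟩ := hy
  have h1 : W.valuation K (algebraMap k K (algebraMap (𝓞 k) k s) * y) ≤ 1 := by
    exact W.valuation_le_one (⟨_, h⟩ : 𝓞 K)
  rw [map_mul, (valuation_algebraMap_eq_one W _).2 (by rw [hW]; exact (valuation_eq_one_iff_notMem _).2 hs), one_mul] at h1
  exact h1

lemma of_valuation_le (h : ∀ W : HeightOneSpectrum (𝓞 K), under k W = v → W.valuation K y ≤ 1) : IntAt v y := by
  rcases eq_or_ne y 0 with rfl | hy
  · exact of_isIntegral isIntegral_zero
  set T := (finite_valuation_ne_one hy).toFinset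
  set B := (T.image (under k)).erase v
  set N := T.sup fun W => (log (W.valuation K y)).toNat
  obtain ⟨s, hs1, hs2⟩ := finite_approx (insert v B)
    (fun u => if u = v then 1 else 0) N.succ
  have hv := hs2 v (Finset.mem_insert_self _ _)
  simp only [if_pos] at hv
  have hsv : v.valuation k s = 1 := by
    rw [← v.valuedAdicCompletion_eq_valuation' s]
    refine (Valuation.map_eq_of_sub_lt _ (hv.trans_lt ?_)).trans (map_one _)
    rw [map_one, ← exp_zero, exp_lt_exp]; omega
  have hB : ∀ u ∈ B, u.valuation k s ≤ exp (-(N.succ : ℤ)) := fun u hu => by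
    have := hs2 u (Finset.mem_insert_of_mem hu)
    simp only [if_neg (Finset.ne_of_mem_erase hu), sub_zero] at this
    rw [← u.valuedAdicCompletion_eq_valuation' s]; exact this
  have hsint : ∀ u : HeightOneSpectrum (𝓞 k), u.valuation k s ≤ 1 := fun u => by
    by_cases hu : u ∈ insert v B
    · rcases Finset.mem_insert.1 hu with rfl | hu
      · exact hsv.le
      · exact (hB u hu).trans (by rw [← exp_zero, exp_le_exp]; omega)
    · exact hs1 u hu
  obtain ⟨s₀, rfl⟩ := mem_integers_of_valuation_le_one k s hsint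
  refine ⟨s₀, (valuation_eq_one_iff_notMem _).1 hsv, ?_⟩
  obtain ⟨r, hr⟩ := mem_integers_of_valuation_le_one (R := 𝓞 K) K
    (algebraMap k K (algebraMap (𝓞 k) k s₀) * y) (fun W => by
      rw [map_mul]
      by_cases hW : under k W = v
      · exact mul_le_one' ((valuation_algebraMap_le_one W _).2 (hsint _)) (h W hW)
      by_cases hT : W ∈ T
      · have h1 := hB (under k W) (Finset.mem_erase.2 ⟨hW, Finset.mem_image_of_mem _ hT⟩)
        have h2 : (log (W.valuation K y)).toNat ≤ N := Finset.le_sup (f := fun W => (log (W.valuation K y)).toNat) hT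
        have h3 : W.valuation K (algebraMap k K (algebraMap (𝓞 k) k s₀)) ≤ exp (-(N.succ : ℤ)) := by
          rw [valuation_algebraMap_eq]
          exact (pow_le_of_le_one zero_le (hsint _) (ramIdx_ne_zero W)).trans h1
        refine (mul_le_mul' h3 le_rfl).trans ?_
        conv_lhs => rw [← exp_log (x := W.valuation K y) ((Valuation.ne_zero_iff _).2 hy)]
        rw [← exp_add, ← exp_zero, exp_le_exp]
        omega
      · have h1 : W.valuation K y = 1 := by
          simpa [T] using hT
        rw [h1, mul_one]; exact (valuation_algebraMap_le_one W _).2 (hsint _))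
  rw [← hr]; exact RingOfIntegers.isIntegral_coe r

lemma norm {L : Type u} [Field L] [NumberField L] [Algebra k L] [Algebra K L] [IsScalarTower k K L] {z : L}
    (hz : IntAt v z) : IntAt v (Algebra.norm K z) := by
  obtain ⟨s, hs, h⟩ := hz
  refine ⟨s ^ Module.finrank K L, fun h1 => hs (v.isPrime.mem_of_pow_mem _ h1), ?_⟩
  have := Algebra.isIntegral_norm K h
  rw [IsScalarTower.algebraMap_apply k K L, map_mul, Algebra.norm_algebraMap] at this
  simpa only [map_pow] using this

end IntAt

lemma valuation_minpoly_coeff {L : Type u} [Field L] [NumberField L] [Algebra k L]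
    {v : HeightOneSpectrum (𝓞 k)} {x : L} (hx : IntAt v x) (i : ℕ) :
    v.valuation k ((minpoly k x).coeff i) ≤ 1 := by
  obtain ⟨s, hs, h⟩ := hx
  have hsv : v.valuation k (algebraMap (𝓞 k) k s) = 1 := (valuation_eq_one_iff_notMem _).2 hs
  set σ := algebraMap (𝓞 k) k s
  have hσ : σ ≠ 0 := (Valuation.ne_zero_iff _).1 (by rw [hsv]; exact one_ne_zero)
  have hxi : IsIntegral k x := Algebra.IsIntegral.isIntegral x
  have hy : IsIntegral (𝓞 k) (algebraMap k L σ * x) := h.tower_top
  have hmp : minpoly k (algebraMap k L σ * x) = (minpoly k x).scaleRoots σ := by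
    symm
    refine minpoly.unique' k _ ((monic_scaleRoots_iff σ).2 (minpoly.monic hxi)) (scaleRoots_aeval_eq_zero (minpoly.aeval k x)) fun q hq => ?_
    by_contra hc
    push Not at hc
    obtain ⟨hq0, hroot⟩ := hc
    rw [degree_scaleRoots] at hq
    replace hq : q.natDegree < (minpoly k x).natDegree := natDegree_lt_natDegree hq0 hq
    have h2 : aeval x (q.comp (C σ * X)) = 0 := by simpa [aeval_comp] using hroot
    have h3 := natDegree_le_of_dvd (minpoly.dvd k x h2) ?_
    · rw [natDegree_comp, natDegree_C_mul_X _ hσ, mul_one] at h3; omega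
    · intro h4
      rcases comp_eq_zero_iff.1 h4 with h5 | ⟨-, h5⟩
      · exact hq0 h5
      · have := congrArg natDegree h5
        rw [natDegree_C_mul_X _ hσ, natDegree_C] at this; omega
  have hco := minpoly.isIntegrallyClosed_eq_field_fractions' k hy
  rw [hmp] at hco
  have h1 := congrArg (fun P : k[X] => v.valuation k (P.coeff i)) hco
  simp only [coeff_scaleRoots, coeff_map, map_mul, map_pow, hsv, one_pow, mul_one] at h1
  rw [h1]
  exact v.valuation_le_one _

end Groth.Agent.NFApprox
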