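import Groth.Agent.NFApprox.Norm1

/-! Places above which given extensions have degree one places. -/

set_option autoImplicit false
universe u

open IsDedekindDomain HeightOneSpectrum NumberField Polynomial
open scoped Classical

namespace Groth.Agent.NFApprox

variable {k : Type u} [Field k] [NumberField k]

/-- The map of completions. -/
noncomputable def complMap {K : Type u} [Field K] [NumberField K] [Algebra k K] (W : HeightOneSpectrum (𝓞 K)) :
    (under k W).adicCompletion k →+* W.adicCompletion K :=
  (adicCompletion.equiv K W).symm.toRingHom.comp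
    ((UniformSpace.Completion.mapRingHom
      (algebraMap (WithVal ((under k W).valuation k)) (WithVal (W.valuation K)))
      (uniformContinuous_algebraMap_liesOver k K (under k W) W).continuous).comp
      (adicCompletion.equiv k (under k W)).toRingHom)

lemma complMap_algebraMap {K : Type u} [Field K] [NumberField K] [Algebra k K] (W : HeightOneSpectrum (𝓞 K)) (x : k) :
    complMap W (algebraMap k ((under k W).adicCompletion k) x) = algebraMap K (W.adicCompletion K) (algebraMap k K x) := by
  apply (adicCompletion.equiv K W).injective
  simp only [complMap, RingHom.coe_comp, Function.comp_apply, RingEquiv.toRingHom_eq_coe, RingEquiv.coe_toRingHom,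
    RingEquiv.apply_symm_apply]
  rw [show adicCompletion.equiv k (under k W) (algebraMap k _ x) =
    ((WithVal.equiv ((under k W).valuation k)).symm x : UniformSpace.Completion (WithVal ((under k W).valuation k))) from rfl]
  rw [UniformSpace.Completion.mapRingHom_coe]
  rfl

/-- A place outside a finite set, over all whose extensions the given extensions have degree one places. -/
lemma exists_split {n : ℕ} (kf Lf : Fin n → Type u) [∀ i, Field (kf i)] [∀ i, NumberField (kf i)]
    [∀ i, Algebra k (kf i)] [∀ i, Field (Lf i)] [∀ i, NumberField (Lf i)] [∀ i, Algebra (kf i) (Lf i)]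
    [∀ i, Algebra k (Lf i)] [∀ i, IsScalarTower k (kf i) (Lf i)] (F : Finset (HeightOneSpectrum (𝓞 k))) :
    ∃ v ∉ F, ∀ i, ∀ W : HeightOneSpectrum (𝓞 (kf i)), under k W = v →
      Nonempty (Lf i →ₐ[kf i] W.adicCompletion (kf i)) := by
  have hθ : ∀ i, ∃ θ : Lf i, IntermediateField.adjoin k {θ} = ⊤ := fun i => Field.exists_primitive_element k (Lf i)
  choose θ hθ using hθ
  set f : k[X] := ∏ i, minpoly k (θ i)
  set M := f.SplittingField
  have : NumberField M := NumberField.of_module_finite k M
  obtain ⟨v, hv, ⟨σ⟩⟩ := exists_degree_one M F
  refine ⟨v, hv, fun i W hW => ?_⟩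
  subst hW
  have hf0 : f ≠ 0 := Finset.prod_ne_zero_iff.2 fun l _ => minpoly.ne_zero (Algebra.IsIntegral.isIntegral _)
  have hsp : ((minpoly k (θ i)).map (algebraMap k M)).Splits :=
    (SplittingField.splits f).of_dvd (Polynomial.map_ne_zero hf0)
      (Polynomial.map_dvd _ (Finset.dvd_prod_of_mem _ (Finset.mem_univ i)))
  set φ : k →+* W.adicCompletion (kf i) := (algebraMap (kf i) _).comp (algebraMap k (kf i))
  have hcomp : φ = ((complMap W).comp σ.toRingHom).comp (algebraMap k M) := by
    refine RingHom.ext fun x => ?_
    show _ = complMap W (σ (algebraMap k M x))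
    rw [σ.commutes, complMap_algebraMap]
    rfl
  have hsp2 : ((minpoly k (θ i)).map φ).Splits := by
    rw [hcomp, ← Polynomial.map_map]; exact hsp.map _
  set g := minpoly (kf i) (θ i)
  have hgi : IsIntegral (kf i) (θ i) := Algebra.IsIntegral.isIntegral _
  have hsp3 : (g.map (algebraMap (kf i) (W.adicCompletion (kf i)))).Splits := by
    refine hsp2.of_dvd (Polynomial.map_ne_zero (minpoly.ne_zero (Algebra.IsIntegral.isIntegral _))) ?_
    rw [← Polynomial.map_map]
    exact Polynomial.map_dvd _ (minpoly.dvd_map_of_isScalarTower k (kf i) (θ i))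
  obtain ⟨r, hr⟩ := hsp3.exists_eval_eq_zero (by
    rw [degree_map]; exact (minpoly.degree_pos hgi).ne')
  rw [eval_map, ← aeval_def] at hr
  have htop : IntermediateField.adjoin (kf i) {θ i} = ⊤ := by
    rw [eq_top_iff]
    intro t _
    have : IntermediateField.adjoin k {θ i} ≤ (IntermediateField.adjoin (kf i) {θ i}).restrictScalars k :=
      IntermediateField.adjoin_simple_le_iff.2 (by
        rw [IntermediateField.mem_restrictScalars]
        exact IntermediateField.mem_adjoin_simple_self (kf i) (θ i))
    exact this ((hθ i) ▸ IntermediateField.mem_top)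
  exact nonempty_algHom_of_root (k := kf i) (L := Lf i) (θ i) htop (R := W.adicCompletion (kf i)) (r := r) hr

end Groth.Agent.NFApprox
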