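import Groth.Agent.NFApprox.Places

/-! Norms of unramified extensions are dense among local units. -/

set_option autoImplicit false
universe u

open IsDedekindDomain HeightOneSpectrum NumberField WithZero
open scoped TensorProduct Classical

namespace Groth.Agent.NFApprox

lemma norm_prod_one {F A C : Type*} [Field F] [CommRing A] [CommRing C] [Algebra F A] [Algebra F C]
    [Module.Finite F A] [Module.Finite F C] (a : A) :
    Algebra.norm F ((a, 1) : A × C) = Algebra.norm F a := by
  have : Algebra.lmul F (A × C) (a, 1) = LinearMap.prodMap (Algebra.lmul F A a) LinearMap.id := by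
    ext x <;> simp
  rw [Algebra.norm_apply, this, LinearMap.det_prodMap, LinearMap.det_id, mul_one, Algebra.norm_apply]

lemma trace_prod_zero {F A C : Type*} [Field F] [CommRing A] [CommRing C] [Algebra F A] [Algebra F C]
    [Module.Finite F A] [Module.Finite F C] (a : A) :
    Algebra.trace F (A × C) ((a, 0) : A × C) = Algebra.trace F A a := by
  have : Algebra.lmul F (A × C) (a, 0) = LinearMap.prodMap (Algebra.lmul F A a) 0 := by
    ext x <;> simp
  rw [Algebra.trace_apply, this, LinearMap.trace_prodMap', map_zero, add_zero, Algebra.trace_apply]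

lemma norm_algEquiv {F A C : Type*} [Field F] [CommRing A] [CommRing C] [Algebra F A] [Algebra F C]
    [Module.Finite F A] (e : A ≃ₐ[F] C) (a : A) : Algebra.norm F (e a) = Algebra.norm F a := by
  set b := Module.Free.chooseBasis F A
  rw [Algebra.norm_eq_matrix_det b, Algebra.norm_eq_matrix_det (b.map e.toLinearEquiv)]
  congr 1
  ext i j
  simp [Algebra.leftMulMatrix_eq_repr_mul, ← map_mul]

/-- Norm and trace of a finite reduced algebra over a finite field are surjective. -/
lemma finite_norm_trace_surjective {F A : Type*} [Field F] [Finite F] [CommRing A] [Algebra F A]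
    [Module.Finite F A] [IsReduced A] [Nontrivial A] :
    (∀ z : F, ∃ a : A, Algebra.norm F a = z) ∧ (∀ z : F, ∃ a : A, Algebra.trace F A a = z) := by
  have : IsArtinianRing A := IsArtinianRing.of_finite F A
  have : IsSemisimpleRing A := IsArtinianRing.isSemisimpleRing_of_isReduced A
  obtain ⟨q, hq⟩ := Ideal.exists_maximal A
  obtain ⟨q', hq'⟩ := exists_isCompl q
  obtain ⟨a, ha, b, hb, hab⟩ : ∃ a ∈ q, ∃ b ∈ q', a + b = 1 :=
    Submodule.mem_sup.1 (hq'.sup_eq_top ▸ Submodule.mem_top)
  set f : A →ₐ[F] (A ⧸ q) × (A ⧸ q') := (Ideal.Quotient.mkₐ F q).prod (Ideal.Quotient.mkₐ F q')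
  have hf : Function.Bijective f := by
    constructor
    · rw [injective_iff_map_eq_zero]
      intro x hx
      simp only [f, AlgHom.prod_apply, Prod.mk_eq_zero, Ideal.Quotient.mkₐ_eq_mk, Ideal.Quotient.eq_zero_iff_mem] at hx
      exact (Submodule.mem_bot A).1 (hq'.inf_eq_bot ▸ ⟨hx.1, hx.2⟩)
    · rintro ⟨x, y⟩
      obtain ⟨x, rfl⟩ := Ideal.Quotient.mk_surjective x
      obtain ⟨y, rfl⟩ := Ideal.Quotient.mk_surjective y
      refine ⟨x * b + y * a, ?_⟩
      simp only [f, AlgHom.prod_apply, Ideal.Quotient.mkₐ_eq_mk, Prod.mk.injEq, Ideal.Quotient.eq]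
      constructor
      · rw [show x * b + y * a - x = (y - x) * a by linear_combination x * hab]
        exact q.mul_mem_left _ ha
      · rw [show x * b + y * a - y = (x - y) * b by linear_combination y * hab]
        exact q'.mul_mem_left _ hb
  set e := AlgEquiv.ofBijective f hf
  letI : Field (A ⧸ q) := Ideal.Quotient.field q
  have : Module.Finite F (A ⧸ q) := Module.Finite.of_surjective (Ideal.Quotient.mkₐ F q).toLinearMap Ideal.Quotient.mk_surjective
  have : Module.Finite F (A ⧸ q') := Module.Finite.of_surjective (Ideal.Quotient.mkₐ F q').toLinearMap Ideal.Quotient.mk_surjective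
  have : Finite (A ⧸ q) := Module.finite_of_finite F
  constructor
  · intro z
    obtain ⟨ξ, hξ⟩ := FiniteField.norm_surjective F (A ⧸ q) z
    refine ⟨e.symm (ξ, 1), ?_⟩
    rw [← norm_algEquiv e, e.apply_symm_apply, norm_prod_one, hξ]
  · intro z
    obtain ⟨ξ, hξ⟩ := Algebra.trace_surjective F (A ⧸ q) z
    refine ⟨e.symm (ξ, 0), ?_⟩
    rw [← Algebra.trace_eq_of_algEquiv e, e.apply_symm_apply, trace_prod_zero, hξ]

section dvr

variable {R B : Type*} [CommRing R] [IsDomain R] [IsDiscreteValuationRing R] [CommRing B] [Algebra R B]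
  [Module.Free R B] [Module.Finite R B]

lemma norm_residue {ι : Type*} [Fintype ι] (b : Module.Basis ι R B) (x : B) :
    Algebra.norm (IsLocalRing.ResidueField R) ((1 : IsLocalRing.ResidueField R) ⊗ₜ[R] x) =
      IsLocalRing.residue R (Algebra.norm R x) := by
  rw [Algebra.norm_eq_matrix_det (Algebra.TensorProduct.basis (IsLocalRing.ResidueField R) b),
    Algebra.norm_eq_matrix_det b, RingHom.map_det]
  congr 1
  ext i j
  simp [Algebra.leftMulMatrix_eq_repr_mul, Algebra.smul_def]

lemma trace_residue {ι : Type*} [Fintype ι] (b : Module.Basis ι R B) (x : B) :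
    Algebra.trace (IsLocalRing.ResidueField R) (IsLocalRing.ResidueField R ⊗[R] B)
      ((1 : IsLocalRing.ResidueField R) ⊗ₜ[R] x) =
      IsLocalRing.residue R (Algebra.trace R B x) := by
  rw [Algebra.trace_eq_matrix_trace (Algebra.TensorProduct.basis (IsLocalRing.ResidueField R) b),
    Algebra.trace_eq_matrix_trace b, Matrix.trace, Matrix.trace, map_sum]
  refine Finset.sum_congr rfl fun i _ => ?_
  simp [Algebra.leftMulMatrix_eq_repr_mul, Algebra.smul_def]

/-- Units are norms modulo every power of the maximal ideal. -/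
lemma exists_norm_congr_local [Nontrivial B] [Finite (IsLocalRing.ResidueField R)]
    {ϖ : R} (hϖ : IsLocalRing.maximalIdeal R = Ideal.span {ϖ})
    (hred : ∀ (y : B) (n : ℕ), ϖ • (1 : B) ∣ y ^ n → ϖ • (1 : B) ∣ y)
    (z : R) (hz : IsUnit z) (N : ℕ) : ∃ x : B, ϖ ^ N ∣ Algebra.norm R x - z := by
  set F := IsLocalRing.ResidueField R
  set b := Module.Free.chooseBasis R B
  have hsurj : ∀ t : F ⊗[R] B, ∃ y : B, t = 1 ⊗ₜ y := by
    intro t
    induction t using TensorProduct.induction_on with
    | zero => exact ⟨0, by simp⟩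
    | tmul f y =>
      obtain ⟨r, rfl⟩ := IsLocalRing.residue_surjective f
      refine ⟨r • y, ?_⟩
      rw [← TensorProduct.smul_tmul, Algebra.smul_def, mul_one]
      rfl
    | add s t hs ht =>
      obtain ⟨a, rfl⟩ := hs
      obtain ⟨c, rfl⟩ := ht
      exact ⟨a + c, (TensorProduct.tmul_add _ _ _).symm⟩
  have hzero : ∀ y : B, (1 : F) ⊗ₜ[R] y = 0 ↔ ϖ • (1 : B) ∣ y := by
    intro y
    constructor
    · intro h
      have hco : ∀ i, ϖ ∣ b.repr y i := fun i => by
        have := congrArg (fun t => (Algebra.TensorProduct.basis F b).repr t i) h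
        simp only [Algebra.TensorProduct.basis_repr_tmul, map_zero, Finsupp.coe_zero, Pi.zero_apply] at this
        rw [← Ideal.mem_span_singleton, ← hϖ, ← IsLocalRing.residue_eq_zero_iff]
        simp only [one_smul, Finsupp.mapRange_apply] at this
        exact this
      choose c hc using hco
      refine ⟨∑ i, c i • b i, ?_⟩
      conv_lhs => rw [← b.sum_repr y]
      simp [Finset.mul_sum, hc, mul_smul, smul_comm ϖ]
    · rintro ⟨w, rfl⟩
      rw [smul_mul_assoc, one_mul, TensorProduct.tmul_smul, Algebra.smul_def]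
      have : IsLocalRing.residue R ϖ = 0 := by
        rw [IsLocalRing.residue_eq_zero_iff, hϖ]; exact Ideal.mem_span_singleton_self ϖ
      show algebraMap R (F ⊗[R] B) ϖ * _ = 0
      rw [Algebra.TensorProduct.algebraMap_apply]
      show (IsLocalRing.residue R ϖ ⊗ₜ[R] (1 : B)) * _ = 0
      rw [this, TensorProduct.zero_tmul, zero_mul]
  have : IsReduced (F ⊗[R] B) := ⟨fun t ⟨n, hn⟩ => by
    obtain ⟨y, rfl⟩ := hsurj t
    rw [Algebra.TensorProduct.tmul_pow, one_pow, hzero] at hn
    exact (hzero y).2 (hred y n hn)⟩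
  have : Nontrivial (F ⊗[R] B) := by
    have := b.index_nonempty
    exact (Algebra.TensorProduct.basis F b).repr.toEquiv.nontrivial
  obtain ⟨hN, hT⟩ := finite_norm_trace_surjective (F := F) (A := F ⊗[R] B)
  have hres : ∀ r : R, IsLocalRing.residue R r = 0 ↔ ϖ ∣ r := fun r => by
    rw [IsLocalRing.residue_eq_zero_iff, hϖ, Ideal.mem_span_singleton]
  have key : ∀ n : ℕ, ∃ x : B, ϖ ^ (n + 1) ∣ Algebra.norm R x - z := by
    intro n
    induction n with
    | zero =>
      obtain ⟨t, ht⟩ := hN (IsLocalRing.residue R z)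
      obtain ⟨y, rfl⟩ := hsurj t
      rw [norm_residue b] at ht
      exact ⟨y, by rw [zero_add, pow_one, ← hres, map_sub, ht, sub_self]⟩
    | succ n ih =>
      obtain ⟨x, w, hw⟩ := ih
      have hu : IsUnit (Algebra.norm R x) := by
        by_contra hnu
        have h1 : ϖ ∣ Algebra.norm R x := by
          rw [← Ideal.mem_span_singleton, ← hϖ, IsLocalRing.mem_maximalIdeal]; exact hnu
        have h2 : ϖ ∣ z := by
          rw [show z = Algebra.norm R x - (Algebra.norm R x - z) by ring]
          exact dvd_sub h1 (by rw [hw, pow_succ]; exact ((Dvd.intro_left _ rfl).mul_right w))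
        rw [← hres, IsLocalRing.residue_eq_zero_iff, IsLocalRing.mem_maximalIdeal] at h2
        exact h2 hz
      obtain ⟨i, hi⟩ := hu.exists_right_inv
      obtain ⟨t, ht⟩ := hT (IsLocalRing.residue R (-(w * i)))
      obtain ⟨η, rfl⟩ := hsurj t
      rw [trace_residue b] at ht
      obtain ⟨s, hs⟩ : ϖ ∣ Algebra.trace R B η + w * i := by
        rw [← hres, map_add, ht, map_neg, neg_add_cancel]
      obtain ⟨r, hr⟩ := Algebra.norm_one_add_smul (A := R) (ϖ ^ (n + 1)) η
      refine ⟨x * (1 + ϖ ^ (n + 1) • η), ?_⟩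
      rw [map_mul, hr]
      refine ⟨Algebra.norm R x * s + Algebra.norm R x * r * ϖ ^ n, ?_⟩
      linear_combination hw + Algebra.norm R x * ϖ ^ (n + 1) * hs - ϖ ^ (n + 1) * w * hi
  obtain ⟨x, hx⟩ := key N
  exact ⟨x, (pow_dvd_pow ϖ (Nat.le_succ N)).trans hx⟩

end dvr

section nf

variable {K L : Type u} [Field K] [NumberField K] [Field L] [NumberField L] [Algebra K L]

/-- Units at an unramified place are approximately norms. -/
lemma exists_norm_congr_place (W : HeightOneSpectrum (𝓞 K))
    (hunr : ∀ Q : HeightOneSpectrum (𝓞 L), under K Q = W → ramIdx K Q = 1)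
    (z : K) (hz : W.valuation K z = 1) (N : ℕ) :
    ∃ x : L, (∀ Q : HeightOneSpectrum (𝓞 L), under K Q = W → Q.valuation L x ≤ 1) ∧
      W.valuation K (Algebra.norm K x - z) ≤ exp (-(N : ℤ)) := by
  set R := (W.valuation K).valuationSubring with hR
  have : IsDiscreteValuationRing R := (inferInstance : IsDiscreteValuationRing (W.valuation K).integer)
  letI : Algebra R L := ((algebraMap K L).comp R.subtype).toAlgebra
  have : IsScalarTower R K L := IsScalarTower.of_algebraMap_eq fun _ => rfl
  set B := integralClosure R L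
  have : Module.Finite R B := IsIntegralClosure.finite R K L B
  have : IsLocalization (Algebra.algebraMapSubmonoid B (nonZeroDivisors R)) L :=
    IsIntegralClosure.isLocalization R K L B
  have : Module.IsTorsionFree R B := Module.isTorsionFree_iff_algebraMap_injective.2 fun a b h =>
    Subtype.ext ((algebraMap K L).injective (congrArg (fun t : B => (t : L)) h))
  have : Module.Free R B := Module.free_of_finite_type_torsion_free'
  -- membership in `B`
  have hBle : ∀ y : B, ∀ Q : HeightOneSpectrum (𝓞 L), under K Q = W → Q.valuation L (y : L) ≤ 1 := by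
    intro y Q hQ
    obtain ⟨P, hPm, hP0⟩ : IsIntegral R (y : L) := y.2
    by_contra hcon
    push Not at hcon
    rw [Polynomial.eval₂_eq_sum_range, Finset.sum_range_succ] at hP0
    rw [hPm.coeff_natDegree, map_one, one_mul] at hP0
    have h1 : Q.valuation L (∑ i ∈ Finset.range P.natDegree, algebraMap R L (P.coeff i) * (y : L) ^ i) <
        Q.valuation L ((y : L) ^ P.natDegree) := by
      refine Valuation.map_sum_lt _ (by rw [map_pow]; exact pow_ne_zero _ (ne_of_gt (lt_trans zero_lt_one hcon))) fun i hi => ?_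
      rw [map_mul, map_pow, map_pow]
      have hc : Q.valuation L (algebraMap R L (P.coeff i)) ≤ 1 := by
        refine (valuation_algebraMap_le_one Q ((P.coeff i : R) : K)).2 ?_
        rw [hQ]; exact (P.coeff i).2
      calc _ ≤ 1 * Q.valuation L (y : L) ^ i := mul_le_mul' hc le_rfl
        _ < _ := by rw [one_mul]; exact pow_lt_pow_right₀ hcon (Finset.mem_range.1 hi)
    have h2 := Valuation.map_add_eq_of_lt_right _ h1
    rw [hP0, map_zero] at h2
    exact absurd h2.symm (by rw [map_pow]; exact pow_ne_zero _ (ne_of_gt (lt_trans zero_lt_one hcon)))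
  have hleB : ∀ y : L, (∀ Q : HeightOneSpectrum (𝓞 L), under K Q = W → Q.valuation L y ≤ 1) → IsIntegral R y := by
    intro y hy
    obtain ⟨s, hs, hsi⟩ := IntAt.of_valuation_le hy
    have hs1 : W.valuation K (algebraMap (𝓞 K) K s) = 1 := (valuation_eq_one_iff_notMem _).2 hs
    have hsR : algebraMap (𝓞 K) K s ∈ R := hs1.le
    have hsR' : (algebraMap (𝓞 K) K s)⁻¹ ∈ R := by
      show W.valuation K _ ≤ 1
      rw [map_inv₀, hs1, inv_one]
    have h1 : IsIntegral R (algebraMap K L (algebraMap (𝓞 K) K s) * y) := hsi.tower_top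
    have h2 := (isIntegral_algebraMap (R := R) (A := L) (x := ⟨_, hsR'⟩)).mul h1
    have e1 : algebraMap K L (algebraMap (𝓞 K) K s)⁻¹ * (algebraMap K L (algebraMap (𝓞 K) K s) * y) = y := by
      rw [← mul_assoc, ← map_mul, inv_mul_cancel₀ (fun h => by rw [h, map_zero] at hs1; exact zero_ne_one hs1), map_one, one_mul]
    exact e1 ▸ h2
  -- uniformizer
  obtain ⟨π, hπ⟩ := W.valuation_exists_uniformizer K
  have hπR : π ∈ R := by
    show W.valuation K π ≤ 1
    rw [hπ, ← exp_zero, exp_le_exp]; omega
  have hπ0 : π ≠ 0 := fun h => by rw [h, map_zero] at hπ; exact exp_ne_zero hπ.symm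
  have hdvd : ∀ (r : R) (n : ℕ), (⟨π, hπR⟩ : R) ^ n ∣ r ↔ W.valuation K (r : K) ≤ exp (-(n : ℤ)) := by
    intro r n
    constructor
    · rintro ⟨t, rfl⟩
      push_cast
      rw [map_mul, map_pow, hπ, ← exp_nsmul, nsmul_eq_mul, mul_neg, mul_one]
      exact mul_le_of_le_one_right' t.2
    · intro h
      refine ⟨⟨(r : K) / π ^ n, ?_⟩, ?_⟩
      · show W.valuation K _ ≤ 1
        rw [map_div₀, map_pow, hπ, ← exp_nsmul, nsmul_eq_mul, mul_neg, mul_one, div_le_one₀ exp_pos]
        exact h
      · apply Subtype.ext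
        push_cast
        rw [mul_div_cancel₀ _ (pow_ne_zero n hπ0)]
  have hunit : ∀ r : R, IsUnit r ↔ W.valuation K (r : K) = 1 := fun r =>
    (Valuation.Integers.isUnit_iff_valuation_eq_one (Valuation.integer.integers (W.valuation K)))
  have hmax : IsLocalRing.maximalIdeal R = Ideal.span {⟨π, hπR⟩} := by
    ext r
    rw [IsLocalRing.mem_maximalIdeal, mem_nonunits_iff, Ideal.mem_span_singleton, hunit]
    have := hdvd r 1
    rw [pow_one] at this
    rw [this]
    have hr : W.valuation K (r : K) ≤ 1 := r.2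
    constructor
    · intro h
      rcases eq_or_ne (W.valuation K (r : K)) 0 with h0 | h0
      · rw [h0]; exact zero_le
      · have h3 := lt_of_le_of_ne hr h
        rw [← exp_log h0] at h3 ⊢
        rw [← exp_zero, exp_lt_exp] at h3
        exact exp_le_exp.2 (by omega)
    · intro h h1
      rw [h1, ← exp_zero, exp_le_exp] at h
      omega
  have : Finite (IsLocalRing.ResidueField R) := by
    have : Finite (𝓞 K ⧸ W.asIdeal) := Ideal.finiteQuotientOfFreeOfNeBot _ W.ne_bot
    set φ : 𝓞 K →+* IsLocalRing.ResidueField R :=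
      (IsLocalRing.residue R).comp ((algebraMap (𝓞 K) K).codRestrict R (fun a => W.valuation_le_one a))
    refine Finite.of_surjective (Ideal.Quotient.lift W.asIdeal φ fun a ha => ?_) fun t => ?_
    · rw [RingHom.comp_apply, IsLocalRing.residue_eq_zero_iff, IsLocalRing.mem_maximalIdeal, mem_nonunits_iff, hunit]
      exact ((valuation_lt_one_iff_mem W a).2 ha).ne
    · obtain ⟨r, rfl⟩ := IsLocalRing.residue_surjective t
      obtain ⟨a, ha⟩ := exists_valuation_sub_lt_of_integer W (x := (r : K)) r.2 1
      refine ⟨Ideal.Quotient.mk _ a, ?_⟩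
      rw [Ideal.Quotient.lift_mk, RingHom.comp_apply, ← sub_eq_zero, ← map_sub, IsLocalRing.residue_eq_zero_iff,
        IsLocalRing.mem_maximalIdeal, mem_nonunits_iff, hunit]
      exact ne_of_lt ha
  have hred : ∀ (y : B) (n : ℕ), (⟨π, hπR⟩ : R) • (1 : B) ∣ y ^ n → (⟨π, hπR⟩ : R) • (1 : B) ∣ y := by
    intro y n hdiv
    rcases Nat.eq_zero_or_pos n with rfl | hn
    · rw [pow_zero] at hdiv; exact hdiv.trans (one_dvd y)
    obtain ⟨w, hw⟩ := hdiv
    have hw' := congrArg (fun t : B => (t : L)) hw
    simp only [SubmonoidClass.coe_pow, Subalgebra.coe_mul, Subalgebra.coe_smul, Subalgebra.coe_one, Algebra.smul_def, mul_one] at hw'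
    have hQ : ∀ Q : HeightOneSpectrum (𝓞 L), under K Q = W →
        Q.valuation L ((y : L) * (algebraMap K L π)⁻¹) ≤ 1 := by
      intro Q hQ
      have hπQ : Q.valuation L (algebraMap K L π) = exp (-(1 : ℤ)) := by
        rw [valuation_algebraMap_eq, hQ, hunr Q hQ, pow_one, hπ]
      rw [map_mul, map_inv₀, hπQ, ← div_eq_mul_inv, div_le_one₀ exp_pos]
      have h1 : Q.valuation L (y : L) ^ n ≤ exp (-(1 : ℤ)) := by
        rw [← map_pow, hw', map_mul]
        show Q.valuation L (algebraMap K L π) * _ ≤ _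
        rw [hπQ]; exact mul_le_of_le_one_right' (hBle w Q hQ)
      rcases eq_or_ne (Q.valuation L (y : L)) 0 with h0 | h0
      · rw [h0]; exact zero_le
      · rw [← exp_log h0] at h1 ⊢
        rw [← exp_nsmul, exp_le_exp, nsmul_eq_mul] at h1
        refine exp_le_exp.2 ?_
        by_contra hcon
        push Not at hcon
        nlinarith
    refine ⟨⟨_, hleB _ hQ⟩, ?_⟩
    apply Subtype.ext
    simp only [Subalgebra.coe_mul, Subalgebra.coe_smul, Subalgebra.coe_one, Algebra.smul_def, mul_one]
    show (y : L) = algebraMap K L π * _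
    rw [mul_left_comm, mul_inv_cancel₀ (by simpa using hπ0), mul_one]
  obtain ⟨x, hx⟩ := exists_norm_congr_local (B := B) hmax hred ⟨z, hz.le⟩ ((hunit _).2 hz) N
  refine ⟨x, fun Q hQ => hBle x Q hQ, ?_⟩
  have h := (hdvd _ N).1 hx
  push_cast at h
  have hloc : Algebra.norm K (x : L) = ((Algebra.norm R x : R) : K) := Algebra.norm_localization R (nonZeroDivisors R) x
  rw [hloc]
  exact h

end nf

end Groth.Agent.NFApprox
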